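import Cfsg.Agent.Lib.InvChar.OneInvolution
import Cfsg.Agent.Lib.Transfer.PGroup

/-!
Facts about a non-commutative 2-subgroup with a single involution.
-/

set_option autoImplicit false
set_option linter.style.haveILetI false
set_option linter.unusedVariables false
set_option linter.unusedSectionVars false

namespace CfsgLib.UniqInvol

open Subgroup

universe u

variable {G : Type u} [Group G]

/-- `P` is a non-commutative 2-subgroup with the single involution `z`. -/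
structure QP (P : Subgroup G) (z : G) : Prop where
  pgrp : IsPGroup 2 P
  mem : z ∈ P
  ord : orderOf z = 2
  uniq : ∀ t ∈ P, orderOf t = 2 → t = z
  nc : ∃ a ∈ P, ∃ b ∈ P, a * b ≠ b * a

variable {P : Subgroup G} {z : G}

theorem invol_mul_self {t : G} (h : orderOf t = 2) : t * t = 1 := by
  rw [← sq, ← h]; exact pow_orderOf_eq_one t

theorem invol_inv {t : G} (h : orderOf t = 2) : t⁻¹ = t :=
  inv_eq_of_mul_eq_one_right (invol_mul_self h)

theorem QP.sq_cases (hP : QP P z) {x : G} (hx : x ∈ P) (h : x * x = 1) : x = 1 ∨ x = z := by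
  by_cases h1 : x = 1
  · exact Or.inl h1
  · exact Or.inr (hP.uniq x hx (orderOf_eq_prime (p := 2) (by rw [sq, h]) h1))

theorem QP.sq_ne_one (hP : QP P z) {x : G} (h : x * x = z) : x * x ≠ 1 := by
  rw [h]; intro e
  have := hP.ord
  rw [e, orderOf_one] at this
  omega

theorem QP.orderOf_four (hP : QP P z) {x : G} (h : x * x = z) : orderOf x = 4 := by
  have h4 : x ^ 2 ^ (1 + 1) = 1 := by
    rw [show (2 : ℕ) ^ (1 + 1) = 2 * 2 by norm_num, pow_mul, sq x, h, sq, invol_mul_self hP.ord]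
  have := orderOf_eq_prime_pow (p := 2) (n := 1) (x := x)
    (by rw [pow_one, sq]; exact hP.sq_ne_one h) h4
  simpa using this

/-- The inverse of an element squaring to the involution. -/
theorem inv_eq_mul_of_sq {x : G} (hz : orderOf z = 2) (h : x * x = z) : x⁻¹ = x * z := by
  refine inv_eq_of_mul_eq_one_right ?_
  rw [← mul_assoc, h, invol_mul_self hz]

/-- A power of an element of `P` outside `⟨z⟩` squares to `z`. -/
theorem QP.exists_pow_sq [Finite G] (hP : QP P z) {c : G} (hc : c ∈ P) (h : c * c ≠ 1) :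
    ∃ n : ℕ, c ^ n * c ^ n = z := by
  obtain ⟨l, hl⟩ := IsPGroup.iff_orderOf.mp hP.pgrp ⟨c, hc⟩
  rw [Subgroup.orderOf_mk] at hl
  have hl2 : 2 ≤ l := by
    by_contra hlt
    apply h
    rw [← sq]
    apply orderOf_dvd_iff_pow_eq_one.mp
    rw [hl]
    exact (pow_dvd_pow 2 (by omega : l ≤ 1)).trans (by norm_num)
  refine ⟨2 ^ (l - 2), hP.uniq _ (mul_mem (pow_mem hc _) (pow_mem hc _)) ?_⟩
  rw [← pow_add, ← two_mul, ← pow_succ', show l - 2 + 1 = l - 1 by omega,
    orderOf_pow_of_dvd (by positivity) (hl ▸ pow_dvd_pow 2 (by omega)), hl,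
    Nat.pow_div (by omega) (by omega), show l - (l - 1) = 1 by omega, pow_one]

/-- The structure of `P`. -/
theorem QP.data [Finite G] (hP : QP P z) : ∃ a ∈ P, a * a ≠ 1 ∧ (∃ b ∈ P, b ∉ zpowers a) ∧
    ∀ y ∈ P, y ∉ zpowers a → y * a * y⁻¹ = a⁻¹ ∧ y * y = z := by
  obtain ⟨a0, ha0, b0, hb0, hab⟩ := hP.nc
  have hz1 : orderOf (⟨z, hP.mem⟩ : ↥P) = 2 := by rw [Subgroup.orderOf_mk]; exact hP.ord
  have huniq : ∃! x : ↥P, orderOf x = 2 := ⟨⟨z, hP.mem⟩, hz1, fun x hx =>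
    Subtype.ext (hP.uniq x x.2 (by rw [orderOf_coe]; exact hx))⟩
  obtain ⟨k, a, hk, hka, hidx, hout⟩ := CfsgLib.InvChar.exists_cyclic_index_two_of_unique_involution
    hP.pgrp (fun h => hab (congrArg Subtype.val
      (setLike_mul_comm (S := Subgroup ↥P) (s := ⊤) (Subgroup.mem_top ⟨a0, ha0⟩)
        (Subgroup.mem_top ⟨b0, hb0⟩)))) huniq
  have hz : ((a ^ 2 ^ (k - 1) : ↥P) : G) = z := by
    refine hP.uniq _ (a ^ 2 ^ (k - 1) : ↥P).2 ?_
    rw [orderOf_coe, orderOf_pow_of_dvd (by positivity) (hka ▸ pow_dvd_pow 2 (by omega)), hka,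
      Nat.pow_div (by omega) (by omega), show k - (k - 1) = 1 by omega, pow_one]
  have hmem : ∀ y : ↥P, y ∈ zpowers a ↔ (y : G) ∈ zpowers (a : G) := fun y => by
    constructor
    · rintro ⟨i, rfl⟩; exact ⟨i, by simp⟩
    · rintro ⟨i, hi⟩; exact ⟨i, Subtype.ext (by simpa using hi)⟩
  refine ⟨a, a.2, ?_, ?_, ?_⟩
  · intro h
    have h2 : orderOf a ∣ 2 := orderOf_dvd_of_pow_eq_one (Subtype.ext (by simpa [sq] using h))
    rw [hka] at h2
    have := Nat.le_of_dvd two_pos h2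
    have : 2 ^ 2 ≤ 2 ^ k := Nat.pow_le_pow_right two_pos hk
    omega
  · by_contra hall
    push Not at hall
    have htop : zpowers a = ⊤ := eq_top_iff.mpr fun y _ => (hmem y).mpr (hall y y.2)
    rw [htop, index_top] at hidx
    omega
  · intro y hy hya
    obtain ⟨h1, h2⟩ := hout ⟨y, hy⟩ fun h => hya ((hmem _).mp h)
    exact ⟨congrArg Subtype.val h1, (congrArg Subtype.val h2).trans hz⟩

theorem conj_zpowers_inv {y a c : G} (h : y * a * y⁻¹ = a⁻¹) (hc : c ∈ zpowers a) :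
    y * c * y⁻¹ = c⁻¹ := by
  obtain ⟨i, rfl⟩ := Subgroup.mem_zpowers_iff.mp hc
  rw [← conj_zpow, h, inv_zpow]

theorem commute_of_mem_zpowers {a c d : G} (hc : c ∈ zpowers a) (hd : d ∈ zpowers a) :
    c * d = d * c := by
  obtain ⟨i, rfl⟩ := Subgroup.mem_zpowers_iff.mp hc
  obtain ⟨j, rfl⟩ := Subgroup.mem_zpowers_iff.mp hd
  rw [← zpow_add, ← zpow_add, add_comm]

/-- An element squaring to `z` is inverted by another one. -/
theorem QP.exists_inverter [Finite G] (hP : QP P z) {x : G} (hx : x ∈ P) (h : x * x = z) :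
    ∃ j ∈ P, j * j = z ∧ j * x * j⁻¹ = x⁻¹ := by
  obtain ⟨a, ha, ha2, ⟨b, hb, hba⟩, hout⟩ := hP.data
  by_cases hxa : x ∈ zpowers a
  · exact ⟨b, hb, (hout b hb hba).2, conj_zpowers_inv (hout b hb hba).1 hxa⟩
  · obtain ⟨n, hn⟩ := hP.exists_pow_sq ha ha2
    refine ⟨a ^ n, pow_mem ha n, hn, ?_⟩
    have h1 := conj_zpowers_inv (hout x hx hxa).1 (Subgroup.pow_mem _ (mem_zpowers a) n)
    have hinv := inv_eq_mul_of_sq hP.ord hn
    set c := a ^ n with hc
    -- `x c x⁻¹ = c⁻¹`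
    have h2 : c * x = x * c⁻¹ := by
      rw [← h1]
      have hsq : c * (x * x) = (x * x) * c := by
        rw [h, ← hn]; group
      calc c * x = c * (x * x) * x⁻¹ := by group
        _ = (x * x) * c * x⁻¹ := by rw [hsq]
        _ = x * (x * c * x⁻¹) := by group
    calc c * x * c⁻¹ = x * (c⁻¹ * c⁻¹) := by rw [h2, mul_assoc]
      _ = x * z⁻¹ := by rw [← hn]; group
      _ = x⁻¹ := by rw [invol_inv hP.ord, inv_eq_mul_of_sq hP.ord h]

/-- An element centralizing `P` squares to one. -/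
theorem QP.central [Finite G] (hP : QP P z) {c : G} (hc : c ∈ P)
    (h : ∀ q ∈ P, c * q = q * c) : c * c = 1 := by
  obtain ⟨a, ha, ha2, ⟨b, hb, hba⟩, hout⟩ := hP.data
  by_cases hca : c ∈ zpowers a
  · have h1 := conj_zpowers_inv (hout b hb hba).1 hca
    rw [← h b hb, mul_inv_cancel_right] at h1
    exact eq_inv_iff_mul_eq_one.mp h1
  · have h1 := (hout c hc hca).1
    rw [h a ha, mul_inv_cancel_right] at h1
    exact absurd (eq_inv_iff_mul_eq_one.mp h1) ha2

/-- An element inverting an element that squares to `z` squares to `z`. -/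
theorem QP.inverter_sq [Finite G] (hP : QP P z) {x q : G} (hx : x ∈ P) (hq : q ∈ P)
    (h : x * x = z) (hqx : q * x * q⁻¹ = x⁻¹) : q * q = z := by
  obtain ⟨a, ha, ha2, ⟨b, hb, hba⟩, hout⟩ := hP.data
  by_cases hqa : q ∈ zpowers a
  · have hxa : x ∉ zpowers a := fun hxa => hP.sq_ne_one h (by
      rw [commute_of_mem_zpowers hqa hxa, mul_inv_cancel_right] at hqx
      exact eq_inv_iff_mul_eq_one.mp hqx)
    have h1 : x * q * x⁻¹ = q⁻¹ := conj_zpowers_inv (hout x hx hxa).1 hqa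
    have hqz : q * z = z * q := by
      rw [← h]
      have e : q * x = x⁻¹ * q := by rw [← hqx]; group
      calc q * (x * x) = x⁻¹ * (q * x) := by conv_lhs => rw [← mul_assoc, e, mul_assoc]
        _ = x⁻¹ * (x⁻¹ * q) := by rw [e]
        _ = x⁻¹ * x⁻¹ * q := by rw [mul_assoc]
        _ = x * x * q := by rw [← mul_inv_rev, h, invol_inv hP.ord]
    calc q * q = (x * q * x⁻¹)⁻¹ * q := by rw [h1, inv_inv]
      _ = x * q⁻¹ * (x⁻¹ * q) := by group
      _ = x * q⁻¹ * ((q * x * q⁻¹) * q) := by rw [hqx]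
      _ = x * x := by group
      _ = z := h
  · exact (hout q hq hqa).2

/-- A 2-group acting on `P` normalizes the subgroup of an element squaring to `z`. -/
theorem QP.exists_normalized [Finite G] (hP : QP P z) {T : Subgroup G} (hT : IsPGroup 2 T)
    (hPT : P ≤ T) (hn : T ≤ normalizer (P : Set G)) :
    ∃ x ∈ P, x * x = z ∧ ∀ t ∈ T, t * x * t⁻¹ = x ∨ t * x * t⁻¹ = x⁻¹ := by
  haveI : Fact (Nat.Prime 2) := ⟨Nat.prime_two⟩
  have hzc : ∀ t ∈ T, t * z * t⁻¹ = z := fun t ht => hP.uniq _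
    ((mem_normalizer_iff.mp (hn ht) z).mp hP.mem) ((orderOf_injective (MulAut.conj t).toMonoidHom (MulAut.conj t).injective z).trans hP.ord)
  set Z := (zpowers z).subgroupOf T with hZ
  haveI : Z.Normal := by
    refine ⟨fun n hn g => ?_⟩
    obtain ⟨i, hi⟩ := Subgroup.mem_zpowers_iff.mp (show (n : G) ∈ zpowers z from hn)
    refine Subgroup.mem_zpowers_iff.mpr ⟨i, ?_⟩
    show z ^ i = (g : G) * (n : G) * (g : G)⁻¹
    rw [← hi, ← conj_zpow, hzc g g.2]
  haveI : (P.subgroupOf T).Normal := (normal_subgroupOf_iff_le_normalizer hPT).mpr hn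
  haveI : Group.IsNilpotent (↥T ⧸ Z) := (hT.to_quotient Z).isNilpotent
  set π := QuotientGroup.mk' Z with hπ
  haveI : ((P.subgroupOf T).map π).Normal := Subgroup.Normal.map inferInstance π
    (QuotientGroup.mk'_surjective Z)
  have hne : (P.subgroupOf T).map π ≠ ⊥ := by
    intro hb
    obtain ⟨a, ha, b, hb', hab⟩ := hP.nc
    have hle := (Subgroup.map_eq_bot_iff _).mp hb
    rw [QuotientGroup.ker_mk'] at hle
    exact hab (commute_of_mem_zpowers (a := z) (hle (show (⟨a, hPT ha⟩ : ↥T) ∈ P.subgroupOf T from ha))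
      (hle (show (⟨b, hPT hb'⟩ : ↥T) ∈ P.subgroupOf T from hb')))
  obtain ⟨q, ⟨hqP, hqc⟩, hq1⟩ := (Subgroup.bot_or_exists_ne_one _).resolve_left
    (CfsgLib.Transfer.inf_center_ne_bot hne)
  obtain ⟨c, hcP, rfl⟩ := hqP
  have hcP' : (c : G) ∈ P := hcP
  have hcomm : ∀ t ∈ T, ∃ i : ℤ, t * (c : G) * t⁻¹ = c * z ^ i := by
    intro t ht
    have h1 := Subgroup.mem_center_iff.mp hqc (π ⟨t, ht⟩)
    rw [← map_mul, ← map_mul] at h1
    have h2 : (c⁻¹ * (⟨t, ht⟩ * c * (⟨t, ht⟩ : ↥T)⁻¹)) ∈ Z := by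
      rw [← QuotientGroup.eq_one_iff]
      show π _ = 1
      rw [map_mul, map_mul, h1, map_inv, map_inv, map_mul]
      group
    obtain ⟨i, hi⟩ := Subgroup.mem_zpowers_iff.mp (show ((c⁻¹ * (⟨t, ht⟩ * c * (⟨t, ht⟩ : ↥T)⁻¹) : ↥T) : G) ∈ zpowers z from h2)
    refine ⟨i, ?_⟩
    push_cast at hi
    rw [hi]; group
  have hc2 : (c : G) * c ≠ 1 := by
    intro h
    apply hq1
    apply (QuotientGroup.eq_one_iff _).mpr
    rcases hP.sq_cases hcP' h with e | e
    · show (c : G) ∈ zpowers z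
      rw [e]; exact one_mem _
    · show (c : G) ∈ zpowers z
      rw [e]; exact mem_zpowers z
  obtain ⟨n, hn'⟩ := hP.exists_pow_sq hcP' hc2
  refine ⟨(c : G) ^ n, pow_mem hcP' n, hn', fun t ht => ?_⟩
  obtain ⟨i, hi⟩ := hcomm t ht
  have hcz : Commute (c : G) (z ^ i) := by
    refine Commute.zpow_right ?_ i
    have h := hzc c c.2
    exact mul_inv_eq_iff_eq_mul.mp h
  have h3 : t * (c : G) ^ n * t⁻¹ = (c : G) ^ n * (z ^ i) ^ n := by
    rw [← conj_pow, hi, hcz.mul_pow]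
  have h4 : ((z ^ i) ^ n) * ((z ^ i) ^ n) = 1 := by
    rw [← zpow_natCast, ← zpow_mul, ← zpow_add, ← two_mul, zpow_mul, zpow_two,
      invol_mul_self hP.ord, one_zpow]
  rcases hP.sq_cases (pow_mem (zpow_mem hP.mem i) n) h4 with e | e
  · exact Or.inl (by rw [h3, e, mul_one])
  · exact Or.inr (by rw [h3, e, inv_eq_mul_of_sq hP.ord hn'])

/-- If `t` inverts nothing that squares to `z`, it fixes the inverters of what it fixes. -/
theorem QP.fixed_inverter [Finite G] (hP : QP P z) {t : G} (htn : ∀ p ∈ P, t * p * t⁻¹ ∈ P)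
    (ht2 : ∀ p ∈ P, t * (t * p * t⁻¹) * t⁻¹ = p)
    (hnone : ∀ j ∈ P, j * j = z → t * j * t⁻¹ ≠ j⁻¹)
    {x q : G} (hx : x ∈ P) (hxx : x * x = z) (htx : t * x * t⁻¹ = x) (hq : q ∈ P)
    (hqx : q * x * q⁻¹ = x⁻¹) : t * q * t⁻¹ = q := by
  have hqq := hP.inverter_sq hx hq hxx hqx
  set c := q⁻¹ * (t * q * t⁻¹) with hc
  have hcP : c ∈ P := mul_mem (inv_mem hq) (htn q hq)
  have hσc : t * c * t⁻¹ = c⁻¹ := by
    have h1 : t * c * t⁻¹ = (t * q * t⁻¹)⁻¹ * (t * (t * q * t⁻¹) * t⁻¹) := by rw [hc]; group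
    rw [h1, ht2 q hq, hc]
    group
  have hc2 : c * c = 1 := by
    by_contra hne
    obtain ⟨n, hn⟩ := hP.exists_pow_sq hcP hne
    exact hnone _ (pow_mem hcP n) hn (by rw [← conj_pow, hσc, inv_pow])
  have htq : t * q * t⁻¹ = q * c := by rw [hc]; group
  rcases hP.sq_cases hcP hc2 with e | e
  · rw [htq, e, mul_one]
  · exact absurd (by rw [htq, e, inv_eq_mul_of_sq hP.ord hqq]) (hnone q hq hqq)

end CfsgLib.UniqInvol
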