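import Cfsg.Agent.Lib.Components.PLayer
import Cfsg.Agent.Lib.Components.GenFittingSub
import Cfsg.Agent.Lib.LocEven.SubnormalSylow
import Cfsg.Agent.Lib.Transfer.Focal
import Cfsg.Agent.Lib.Components.UniqueInvol.Quaternion
import Cfsg.Prelude.Def_Local
import Mathlib.GroupTheory.Transfer

/-!
2-components with a single involution of the centralizer of that involution.
-/

set_option autoImplicit false
set_option linter.style.haveILetI false
set_option linter.unusedVariables false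
set_option linter.unusedSectionVars false

namespace CfsgLib.UniqInvol

open Subgroup CfsgLib.Components
open scoped commutatorElement

universe u

variable {G : Type u} [Group G]

/-- Conjugate of a subgroup. -/
abbrev cj (g : G) (H : Subgroup G) : Subgroup G := H.map (MulAut.conj g).toMonoidHom

/-- The core of the centralizer of `z`, as a subgroup of the group. -/
abbrev core (z : G) : Subgroup G := Cfsg.centralizerPPrimeCore 2 z

/-- `g` is a 2-element. -/
abbrev Is2 (g : G) : Prop := ∃ k : ℕ, g ^ 2 ^ k = 1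

/-- `J` has the single involution `z` and is a 2-component of `C(z)`. -/
structure UI (J : Subgroup G) (z : G) : Prop where
  le : J ≤ centralizer ({z} : Set G)
  mem : z ∈ J
  ord : orderOf z = 2
  uniq : ∀ t ∈ J, orderOf t = 2 → t = z
  comp : Cfsg.IsPComponent 2 (J.subgroupOf (centralizer ({z} : Set G)))

theorem cj_mem {g x : G} {H : Subgroup G} : x ∈ cj g H ↔ g⁻¹ * x * g ∈ H := mem_map_conj

theorem cj_mul (g h : G) (H : Subgroup G) : cj (g * h) H = cj g (cj h H) := by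
  ext x
  rw [cj_mem, cj_mem, cj_mem, mul_inv_rev]
  simp only [mul_assoc]

theorem cj_one (H : Subgroup G) : cj 1 H = H := by
  ext x
  rw [cj_mem, inv_one, one_mul, mul_one]

theorem cj_inj {g : G} {H H' : Subgroup G} (h : cj g H = cj g H') : H = H' :=
  map_injective (MulAut.conj g).injective h

theorem cj_inv {g : G} {H : Subgroup G} (h : cj g H = H) : cj g⁻¹ H = H := by
  conv_lhs => rw [← h, ← cj_mul, inv_mul_cancel, cj_one]

theorem conj_mem_of_cj_eq {g x : G} {H : Subgroup G} (h : cj g H = H) (hx : x ∈ H) :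
    g * x * g⁻¹ ∈ H := by
  have h' : g * x * g⁻¹ ∈ cj g H := ⟨x, hx, rfl⟩
  rwa [h] at h'

theorem conj_mem_of_cj_eq' {g x : G} {H : Subgroup G} (h : cj g H = H) (hx : x ∈ H) :
    g⁻¹ * x * g ∈ H := by
  rw [← h, cj_mem] at hx
  exact hx

theorem cj_eq_of_mem {g : G} {H : Subgroup G} (h : g ∈ H) : cj g H = H :=
  map_conj_eq_of_mem_normalizer (le_normalizer h)

theorem is2_of_mem {T : Subgroup G} (hT : IsPGroup 2 T) {g : G} (hg : g ∈ T) : Is2 g := by
  obtain ⟨k, hk⟩ := hT ⟨g, hg⟩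
  exact ⟨k, congrArg Subtype.val hk⟩

theorem is2_of_sq {g z : G} (hz : orderOf z = 2) (h : g * g = z) : Is2 g :=
  ⟨2, by rw [show (2 : ℕ) ^ 2 = 2 * 2 by norm_num, pow_mul, sq g, h, sq, invol_mul_self hz]⟩

theorem is2_of_invol {z : G} (hz : orderOf z = 2) : Is2 z :=
  ⟨1, by rw [pow_one, sq, invol_mul_self hz]⟩

theorem is2_zpowers {g : G} (h : Is2 g) : IsPGroup 2 ↥(zpowers g) := by
  obtain ⟨k, hk⟩ := h
  rintro ⟨x, hx⟩
  obtain ⟨i, rfl⟩ := Subgroup.mem_zpowers_iff.mp hx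
  refine ⟨k, Subtype.ext ?_⟩
  show (g ^ i) ^ 2 ^ k = 1
  rw [← zpow_natCast, ← zpow_mul, mul_comm, zpow_mul, zpow_natCast, hk, one_zpow]

theorem mem_centralizer_comm {g z : G} :
    g ∈ centralizer ({z} : Set G) ↔ g * z = z * g := by
  rw [mem_centralizer_singleton_iff]

theorem conj_eq_self_iff {g z : G} : g * z * g⁻¹ = z ↔ g * z = z * g := mul_inv_eq_iff_eq_mul

/-- An involution commutes with what it fixes. -/
theorem invol_conj_eq_iff {t x : G} (ht : orderOf t = 2) : t * x * t = x ↔ t * x = x * t := by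
  constructor
  · intro h
    calc t * x = t * x * (t * t) := by rw [invol_mul_self ht, mul_one]
      _ = x * t := by rw [← mul_assoc, h]
  · intro h
    rw [h, mul_assoc, invol_mul_self ht, mul_one]

variable [Finite G]

theorem eq_one_of_is2_coprime {g : G} (h : Is2 g) {n : ℕ} (hn : n.Coprime 2) (hg : g ^ n = 1) :
    g = 1 := by
  obtain ⟨k, hk⟩ := h
  have h1 := Nat.eq_one_of_dvd_coprimes (hn.pow_right k) (orderOf_dvd_of_pow_eq_one hg)
    (orderOf_dvd_of_pow_eq_one hk)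
  exact orderOf_eq_one_iff.mp h1

theorem core_le (z : G) : core z ≤ centralizer ({z} : Set G) := map_subtype_le _

theorem core_coprime (z : G) : (Nat.card (core z)).Coprime 2 := by
  rw [core, Cfsg.centralizerPPrimeCore, card_map_of_injective (Subgroup.subtype_injective _)]
  exact coprime_card_pPrimeCore 2

theorem mem_core_iff {z g : G} (hg : g ∈ centralizer ({z} : Set G)) :
    g ∈ core z ↔
      (⟨g, hg⟩ : ↥(centralizer ({z} : Set G))) ∈ Cfsg.pPrimeCore 2 ↥(centralizer ({z} : Set G)) := by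
  constructor
  · rintro ⟨x, hx, hxg⟩
    exact (Subtype.ext hxg : x = ⟨g, hg⟩) ▸ hx
  · intro h; exact ⟨_, h, rfl⟩

theorem mk_eq_iff {z g h : G} (hg : g ∈ centralizer ({z} : Set G))
    (hh : h ∈ centralizer ({z} : Set G)) :
    QuotientGroup.mk' (Cfsg.pPrimeCore 2 ↥(centralizer ({z} : Set G))) ⟨g, hg⟩ =
      QuotientGroup.mk' (Cfsg.pPrimeCore 2 ↥(centralizer ({z} : Set G))) ⟨h, hh⟩ ↔
      g⁻¹ * h ∈ core z := by
  rw [mem_core_iff (mul_mem (inv_mem hg) hh)]
  exact QuotientGroup.eq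

theorem core_conj {z c g : G} (hc : c ∈ centralizer ({z} : Set G)) (hg : g ∈ core z) :
    c * g * c⁻¹ ∈ core z := by
  obtain ⟨x, hx, rfl⟩ := hg
  exact ⟨⟨c, hc⟩ * x * (⟨c, hc⟩ : ↥(centralizer ({z} : Set G)))⁻¹,
    (Subgroup.Normal.conj_mem inferInstance x hx _), rfl⟩

theorem eq_one_of_is2_core {z g : G} (h : Is2 g) (hg : g ∈ core z) : g = 1 :=
  eq_one_of_is2_coprime h (core_coprime z) (congrArg Subtype.val
    (pow_card_eq_one' (x := (⟨g, hg⟩ : ↥(core z)))))

/-- A power of odd exponent recovers a central involution from a product with a core element. -/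
theorem pow_core {z w o : G} (hw : orderOf w = 2) (ho : o ∈ core z) (hc : w * o = o * w) :
    (w * o) ^ Nat.card (core z) = w := by
  have ho1 : o ^ Nat.card (core z) = 1 :=
    congrArg Subtype.val (pow_card_eq_one' (x := (⟨o, ho⟩ : ↥(core z))))
  obtain ⟨m, hm⟩ : ∃ m, Nat.card (core z) = 2 * m + 1 := by
    rcases Nat.even_or_odd (Nat.card (core z)) with ⟨m, hm⟩ | h
    · exfalso
      have h2 : 2 ∣ Nat.card (core z) := ⟨m, by omega⟩
      have := Nat.eq_one_of_dvd_coprimes (core_coprime z) h2 dvd_rfl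
      omega
    · exact h
  rw [Commute.mul_pow hc, ho1, mul_one, hm, pow_succ, pow_mul, sq, invol_mul_self hw, one_pow,
    one_mul]

variable {J J1 K : Subgroup G} {z : G}

theorem UI.comm_z (h : UI J z) {x : G} (hx : x ∈ J) : x * z = z * x :=
  mem_centralizer_comm.mp (h.le hx)

theorem UI.conj (h : UI J z) (g : G) : UI (cj g J) (g * z * g⁻¹) := by
  have hC : cj g (centralizer ({z} : Set G)) = centralizer ({g * z * g⁻¹} : Set G) := by
    rw [cj, CfsgLib.GenFittingSub.map_conj_centralizer, Set.image_singleton, MulAut.conj_apply]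
  refine ⟨(map_mono h.le).trans hC.le, ⟨z, h.mem, rfl⟩,
    (orderOf_injective (MulAut.conj g).toMonoidHom (MulAut.conj g).injective z).trans h.ord, ?_, ?_⟩
  · rintro _ ⟨t, ht, rfl⟩ ho
    rw [h.uniq t ht ((orderOf_injective (MulAut.conj g).toMonoidHom (MulAut.conj g).injective t).symm.trans ho)]
    rfl
  · let e : ↥(centralizer ({z} : Set G)) ≃* ↥(centralizer ({g * z * g⁻¹} : Set G)) :=
      ((MulAut.conj g).subgroupMap _).trans (MulEquiv.subgroupCongr hC)
    have h' := isPComponent_map_equiv e h.comp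
    convert h' using 1
    ext x
    constructor
    · intro hx
      obtain ⟨j, hj, hjx⟩ := mem_subgroupOf.mp hx
      exact ⟨⟨j, h.le hj⟩, hj, Subtype.ext hjx⟩
    · rintro ⟨j, hj, rfl⟩
      exact mem_subgroupOf.mpr ⟨j, hj, rfl⟩

theorem UI.conj_of_comm (h : UI J z) {g : G} (hg : g * z = z * g) : UI (cj g J) z := by
  have := h.conj g
  rwa [conj_eq_self_iff.mpr hg] at this

theorem UI.pcomp_ne (h : UI J z) (h1 : UI J1 z) (hne : J ≠ J1) :
    J.subgroupOf (centralizer ({z} : Set G)) ≠ J1.subgroupOf (centralizer ({z} : Set G)) := fun e =>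
  hne (by rw [← map_subgroupOf_eq_of_le h.le, e, map_subgroupOf_eq_of_le h1.le])

/-- Elements of distinct 2-components lying in a 2-group commute. -/
theorem UI.comm (h : UI J z) (h1 : UI J1 z) (hne : J ≠ J1) {R : Subgroup G} (hR : IsPGroup 2 R)
    {x y : G} (hx : x ∈ J) (hy : y ∈ J1) (hxR : x ∈ R) (hyR : y ∈ R) : x * y = y * x := by
  haveI : Fact (Nat.Prime 2) := ⟨Nat.prime_two⟩
  have h' := (pComponent_commutator_le h.comp h1.comp (h.pcomp_ne h1 hne)).trans inf_le_right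
    (commutator_mem_commutator (g₁ := ⟨x, h.le hx⟩) (g₂ := ⟨y, h1.le hy⟩) hx hy)
  have h2 : ⁅x, y⁆ ∈ core z := ⟨_, h', rfl⟩
  exact commutatorElement_eq_one_iff_mul_comm.mp (eq_one_of_is2_core (is2_of_mem hR
    (mul_mem (mul_mem (mul_mem hxR hyR) (inv_mem hxR)) (inv_mem hyR))) h2)

/-- Each component with a single involution is normalized by the others. -/
theorem UI.cj_of_mem (h : UI J z) (h1 : UI J1 z) {y : G} (hy : y ∈ J1) : cj y J = J := by
  haveI : Fact (Nat.Prime 2) := ⟨Nat.prime_two⟩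
  have hn := pComponent_le_normalizer h.comp h1.comp (show (⟨y, h1.le hy⟩ : ↥(centralizer ({z} : Set G))) ∈ _ from hy)
  refine map_conj_eq_of_mem_normalizer (mem_normalizer_fintype fun x hx => ?_)
  exact (mem_normalizer_iff.mp hn ⟨x, h.le hx⟩).mp hx

/-! ### Sylow subgroups of subgroups -/

/-- `T` is a Sylow 2-subgroup of `C`. -/
def Syl (C T : Subgroup G) : Prop :=
  ∃ S : Sylow 2 ↥C, T = (S : Subgroup ↥C).map C.subtype

theorem Syl.le {C T : Subgroup G} (h : Syl C T) : T ≤ C := by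
  obtain ⟨S, rfl⟩ := h; exact map_subtype_le _

theorem Syl.pgrp {C T : Subgroup G} (h : Syl C T) : IsPGroup 2 T := by
  obtain ⟨S, rfl⟩ := h; exact S.isPGroup'.map _

theorem exists_syl {C R : Subgroup G} (hR : IsPGroup 2 R) (hRC : R ≤ C) : ∃ T, Syl C T ∧ R ≤ T := by
  obtain ⟨S, hS⟩ := (hR.comap_of_injective C.subtype C.subtype_injective).exists_le_sylow
  refine ⟨_, ⟨S, rfl⟩, fun x hx => ?_⟩
  exact ⟨⟨x, hRC hx⟩, hS (show (⟨x, hRC hx⟩ : ↥C) ∈ R.comap C.subtype from hx), rfl⟩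

/-- Every 2-element of a subnormal subgroup is conjugate in it into `T`. -/
theorem Syl.conj_mem {C T H : Subgroup G} (h : Syl C T) (hH : (H.subgroupOf C).IsSubnormal)
    (hHC : H ≤ C) {x : G} (hx : x ∈ H) (h2 : Is2 x) : ∃ c ∈ H, c * x * c⁻¹ ∈ T := by
  haveI : Fact (Nat.Prime 2) := ⟨Nat.prime_two⟩
  obtain ⟨S, rfl⟩ := h
  obtain ⟨T', hT'⟩ := CfsgLib.LocEven.exists_sylow_eq_inf S hH
  set y : ↥(H.subgroupOf C) := ⟨⟨x, hHC hx⟩, hx⟩ with hy
  obtain ⟨T1, hT1⟩ := (is2_zpowers (g := y) (by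
    obtain ⟨k, hk⟩ := h2; exact ⟨k, Subtype.ext (Subtype.ext hk)⟩)).exists_le_sylow
  obtain ⟨c, hc⟩ := MulAction.exists_smul_eq ↥(H.subgroupOf C) T1 T'
  have h' : c * y * c⁻¹ ∈ (T' : Subgroup ↥(H.subgroupOf C)) := by
    rw [← hc]
    exact (Subgroup.smul_mem_pointwise_smul_iff (a := MulAut.conj c) (x := y)
      (S := (T1 : Subgroup ↥(H.subgroupOf C)))).2 (hT1 (mem_zpowers _))
  rw [hT'] at h'
  exact ⟨((c : ↥C) : G), c.2, ⟨_, h', rfl⟩⟩

theorem Syl.mem_of_central {C T : Subgroup G} (h : Syl C T) {x : G} (hxC : x ∈ C) (h2 : Is2 x)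
    (hc : ∀ c ∈ C, c * x = x * c) : x ∈ T := by
  obtain ⟨c, hcC, hcT⟩ := h.conj_mem (H := C) (by rw [subgroupOf_self]; exact IsSubnormal.top) le_rfl hxC h2
  rwa [hc c hcC, mul_inv_cancel_right] at hcT

theorem Syl.z_mem {T : Subgroup G} (h : Syl (centralizer ({z} : Set G)) T) (hz : orderOf z = 2) :
    z ∈ T :=
  h.mem_of_central (mem_centralizer_comm.mpr rfl) (is2_of_invol hz)
    fun c hc => mem_centralizer_comm.mp hc

/-- A Sylow 2-subgroup of `C(z)` meets `J` in a non-commutative group with one involution. -/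
theorem UI.qp {T : Subgroup G} (h : UI J z) (hT : Syl (centralizer ({z} : Set G)) T) :
    QP (T ⊓ J) z := by
  haveI : Fact (Nat.Prime 2) := ⟨Nat.prime_two⟩
  have hzT := hT.z_mem h.ord
  refine ⟨hT.pgrp.to_le inf_le_left, ⟨hzT, h.mem⟩, h.ord, fun t ht => h.uniq t ht.2, ?_⟩
  by_contra hab
  push Not at hab
  obtain ⟨S, rfl⟩ := hT
  set H := J.subgroupOf (centralizer ({z} : Set G)) with hH
  obtain ⟨P, hP⟩ := CfsgLib.LocEven.exists_sylow_eq_inf S h.comp.1
  have hmem : ∀ p : ↥H, p ∈ (P : Subgroup ↥H) →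
      ((p : ↥(centralizer ({z} : Set G))) : G) ∈
        (S : Subgroup ↥(centralizer ({z} : Set G))).map (centralizer ({z} : Set G)).subtype ⊓ J := by
    intro p hp
    rw [hP] at hp
    exact ⟨⟨_, hp, rfl⟩, p.2⟩
  have hPc : IsMulCommutative ↥(P : Subgroup ↥H) :=
    ⟨⟨fun a b => Subtype.ext (Subtype.ext (Subtype.ext (hab _ (hmem a a.2) _ (hmem b b.2))))⟩⟩
  have hzP : (⟨⟨z, h.le h.mem⟩, h.mem⟩ : ↥H) ∈ (P : Subgroup ↥H) := by
    rw [hP]
    obtain ⟨s, hs, hsz⟩ := hzT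
    exact (Subtype.ext hsz : s = ⟨z, h.le h.mem⟩) ▸ hs
  have huniq : ∃! x : ↥(P : Subgroup ↥H), orderOf x = 2 := by
    refine ⟨⟨_, hzP⟩, ?_, fun x hx => ?_⟩
    · show orderOf (⟨⟨⟨z, h.le h.mem⟩, h.mem⟩, hzP⟩ : ↥(P : Subgroup ↥H)) = 2
      rw [← orderOf_coe, ← orderOf_coe, ← orderOf_coe]
      exact h.ord
    · refine Subtype.ext (Subtype.ext (Subtype.ext (h.uniq _ (x : ↥H).2 ?_)))
      rw [orderOf_coe, orderOf_coe, orderOf_coe]
      exact hx
  obtain ⟨a, ha⟩ := CfsgLib.InvChar.exists_zpowers_eq_of_commutative P.isPGroup' huniq ⊤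
    ⟨⟨fun a b => Subtype.ext (IsMulCommutative.is_comm.comm (a : ↥(P : Subgroup ↥H)) b)⟩⟩
  have hcyc : IsCyclic ↥(P : Subgroup ↥H) :=
    isCyclic_iff_exists_zpowers_eq_top.mpr ⟨a, ha⟩
  have h2 : 2 ∣ Nat.card ↥H := pComponent_dvd_card h.comp
  have hmin : (Nat.card ↥H).minFac = 2 := (Nat.minFac_eq_two_iff _).mpr h2
  have hcompl := IsCyclic.isComplement' hmin hcyc
  haveI : Group.IsPerfect ↥H := isPerfect_iff.mpr (pComponent_commutator_self h.comp)
  set f := MonoidHom.transferSylow P (hcyc.normalizer_le_centralizer hmin) with hf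
  have hker : f.ker = ⊤ := by
    rw [eq_top_iff, ← Group.IsPerfect.commutator_eq_top (G := ↥H), _root_.commutator_def, commutator_le]
    intro u _ v _
    rw [MonoidHom.mem_ker, map_commutatorElement]
    exact commutatorElement_eq_one_iff_mul_comm.mpr (IsMulCommutative.is_comm.comm _ _)
  have hbot : (P : Subgroup ↥H) = ⊥ := by
    have := hcompl.disjoint
    rw [hker] at this
    exact top_disjoint.mp this
  exact P.ne_bot_of_dvd_card h2 hbot

/-- Two distinct components share no 2-element of order more than two. -/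
theorem UI.inter_sq (h : UI J z) (h1 : UI J1 z) (hne : J ≠ J1) {x : G} (hx : x ∈ J)
    (hx1 : x ∈ J1) (h2 : Is2 x) : x * x = 1 := by
  obtain ⟨T, hT, hle⟩ := exists_syl (is2_zpowers h2) (zpowers_le.mpr (h.le hx))
  have hxT := hle (mem_zpowers x)
  exact (h.qp hT).central ⟨hxT, hx⟩ fun q hq => (h.comm h1 hne hT.pgrp hq.2 hx1 hq.1 hxT).symm

/-- A 2-element of order at least four lies in one component only. -/
theorem UI.cj_eq_of_fixed (h : UI K z) {t y : G} (ht : t * z = z * t) (hy : y ∈ K) (h2 : Is2 y)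
    (hy2 : y * y ≠ 1) (hc : y * t = t * y) : cj t K = K := by
  by_contra hne
  refine hy2 ((h.conj_of_comm ht).inter_sq h hne (cj_mem.mpr ?_) hy h2)
  rw [mul_assoc, hc, inv_mul_cancel_left]
  exact hy

/-- The subgroups of order four of a component are conjugate in it. -/
theorem UI.exists_conj_four {T : Subgroup G} (h : UI J z) (hT : Syl (centralizer ({z} : Set G)) T)
    {x j : G} (hx : x ∈ T ⊓ J) (hxx : x * x = z) (hj : j ∈ T ⊓ J) (hjj : j * j = z) :
    ∃ c ∈ J, c * j * c⁻¹ = x ∨ c * j * c⁻¹ = x⁻¹ := by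
  haveI : Fact (Nat.Prime 2) := ⟨Nat.prime_two⟩
  have hQP := h.qp hT
  obtain ⟨a, ha, ha2, ⟨b, hb, hba⟩, hout⟩ := hQP.data
  obtain ⟨n, hn⟩ := hQP.exists_pow_sq ha ha2
  obtain ⟨S, rfl⟩ := hT
  set H := J.subgroupOf (centralizer ({z} : Set G)) with hH
  obtain ⟨P, hP⟩ := CfsgLib.LocEven.exists_sylow_eq_inf S h.comp.1
  have hmem : ∀ p : ↥H, p ∈ (P : Subgroup ↥H) ↔
      ((p : ↥(centralizer ({z} : Set G))) : G) ∈
        (S : Subgroup ↥(centralizer ({z} : Set G))).map (centralizer ({z} : Set G)).subtype ⊓ J := by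
    intro p
    rw [hP]
    constructor
    · intro hp; exact ⟨⟨_, hp, rfl⟩, p.2⟩
    · rintro ⟨⟨s, hs, hsp⟩, -⟩
      show (p : ↥(centralizer ({z} : Set G))) ∈ (S : Subgroup ↥(centralizer ({z} : Set G)))
      rwa [← (Subtype.ext hsp : s = (p : ↥(centralizer ({z} : Set G))))]
  let v : ↥H → G := fun p => ((p : ↥(centralizer ({z} : Set G))) : G)
  let zH : ↥H := ⟨⟨z, h.le h.mem⟩, h.mem⟩
  haveI hZn : (zpowers zH).Normal := by
    refine ⟨fun m hm g => ?_⟩
    obtain ⟨i, rfl⟩ := Subgroup.mem_zpowers_iff.mp hm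
    refine Subgroup.mem_zpowers_iff.mpr ⟨i, ?_⟩
    rw [← conj_zpow]
    congr 1
    refine Subtype.ext (Subtype.ext ?_)
    show z = v g * z * (v g)⁻¹
    exact (conj_eq_self_iff.mpr (h.comm_z g.2)).symm
  set π := QuotientGroup.mk' (zpowers zH) with hπ
  let P' : Sylow 2 (↥H ⧸ zpowers zH) := P.mapSurjective (QuotientGroup.mk'_surjective _)
  have hperf : Cfsg.pResidual 2 (↥H ⧸ zpowers zH) = ⊤ := by
    haveI : Group.IsPerfect ↥H := isPerfect_iff.mpr (pComponent_commutator_self h.comp)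
    haveI : Group.IsPerfect (↥H ⧸ zpowers zH) :=
      Group.IsPerfect.ofSurjective (QuotientGroup.mk'_surjective (zpowers zH))
    refine eq_top_iff.mpr (le_of_coprime_orderOf_mem (p := 2) ?_ fun q _ hq => subset_closure hq)
    rw [← _root_.commutator_def]
    exact Group.IsPerfect.commutator_eq_top
  have haz : z ∈ zpowers a := hn ▸ mul_mem (Subgroup.pow_mem _ (mem_zpowers a) n) (Subgroup.pow_mem _ (mem_zpowers a) n)
  let A0 : Subgroup ↥H := (zpowers a).comap ((centralizer ({z} : Set G)).subtype.comp H.subtype)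
  have hzA : ∀ p p' : ↥H, π p = π p' → p ∈ A0 → p' ∈ A0 := by
    intro p p' e hp
    have h1 : p⁻¹ * p' ∈ zpowers zH := QuotientGroup.eq.mp e
    have h2 : zpowers zH ≤ A0 := zpowers_le.mpr haz
    simpa using mul_mem hp (h2 h1)
  set M : Subgroup ↥(P' : Subgroup (↥H ⧸ zpowers zH)) :=
    ((A0 ⊓ (P : Subgroup ↥H)).map π).subgroupOf (P' : Subgroup (↥H ⧸ zpowers zH)) with hM
  have hMmem : ∀ p ∈ (P : Subgroup ↥H), ∀ hp' : π p ∈ (P' : Subgroup (↥H ⧸ zpowers zH)),
      ((⟨π p, hp'⟩ : ↥(P' : Subgroup (↥H ⧸ zpowers zH))) ∈ M ↔ v p ∈ zpowers a) := by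
    intro p hp hp'
    constructor
    · rintro ⟨p', hp1, hpp⟩
      exact hzA p' p hpp hp1.1
    · intro h'; exact ⟨p, ⟨h', hp⟩, rfl⟩
  have hbP : (⟨⟨b, h.le hb.2⟩, hb.2⟩ : ↥H) ∈ (P : Subgroup ↥H) := (hmem _).mpr hb
  have hidx : M.index = 2 := by
    refine index_eq_two_iff.mpr ⟨⟨π ⟨⟨b, h.le hb.2⟩, hb.2⟩, ⟨_, hbP, rfl⟩⟩, fun q => ?_⟩
    obtain ⟨p, hp, hpq⟩ := q.2
    have hq : q = ⟨π p, ⟨p, hp, rfl⟩⟩ := Subtype.ext hpq.symm
    subst hq
    rw [xor_iff_iff_not]
    have e1 := hMmem _ (mul_mem hp hbP) ⟨_, mul_mem hp hbP, rfl⟩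
    have e2 := hMmem _ hp ⟨p, hp, rfl⟩
    refine Iff.trans ?_ (not_congr e2).symm
    refine Iff.trans (Iff.trans ?_ e1) ?_
    · refine iff_of_eq (congrArg (· ∈ M) (Subtype.ext ?_))
      exact (map_mul π _ _).symm
    show v p * b ∈ zpowers a ↔ ¬ v p ∈ zpowers a
    constructor
    · intro h1 h2
      exact hba (by simpa using mul_mem (inv_mem h2) h1)
    · intro h1
      by_contra h2
      have hvp : v p ∈ (S : Subgroup ↥(centralizer ({z} : Set G))).map (centralizer ({z} : Set G)).subtype ⊓ J :=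
        (hmem p).mp hp
      have e := (hout _ (mul_mem hvp hb) h2).1
      have e' : v p * b * a * (v p * b)⁻¹ = a := by
        calc v p * b * a * (v p * b)⁻¹ = v p * (b * a * b⁻¹) * (v p)⁻¹ := by group
          _ = (v p * a * (v p)⁻¹)⁻¹ := by rw [(hout b hb hba).1]; group
          _ = a := by rw [(hout _ hvp h1).1, inv_inv]
      rw [e'] at e
      exact ha2 (eq_inv_iff_mul_eq_one.mp e)
  -- every involution of the quotient is conjugate to the image of `a ^ n`
  have haP : a ^ n ∈ (S : Subgroup ↥(centralizer ({z} : Set G))).map (centralizer ({z} : Set G)).subtype ⊓ J :=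
    pow_mem ha n
  let c4 : ↥H := ⟨⟨a ^ n, h.le haP.2⟩, haP.2⟩
  have hzz : z * z = 1 := invol_mul_self h.ord
  have hker : ∀ p : ↥H, π p = 1 ↔ v p = 1 ∨ v p = z := by
    intro p
    constructor
    · intro hp
      obtain ⟨i, hi⟩ := Subgroup.mem_zpowers_iff.mp ((QuotientGroup.eq_one_iff _).mp hp)
      have hi' : z ^ i = v p := by simpa [v, zH] using congrArg v hi
      rw [← hi']
      exact hQP.sq_cases (zpow_mem hQP.mem i) (by
        rw [← zpow_add, ← two_mul, zpow_mul, zpow_two, hzz, one_zpow])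
    · rintro (e | e)
      · rw [show p = 1 from Subtype.ext (Subtype.ext e), map_one]
      · exact (QuotientGroup.eq_one_iff _).mpr
          (Subgroup.mem_zpowers_iff.mpr ⟨1, by rw [zpow_one]; exact Subtype.ext (Subtype.ext e.symm)⟩)
  have key : ∀ w (hw : w ∈ (S : Subgroup ↥(centralizer ({z} : Set G))).map (centralizer ({z} : Set G)).subtype ⊓ J),
      w * w = z → ∃ g : ↥H ⧸ zpowers zH, g * π ⟨⟨w, h.le hw.2⟩, hw.2⟩ * g⁻¹ = π c4 := by
    intro w hw hww
    set wH : ↥H := ⟨⟨w, h.le hw.2⟩, hw.2⟩ with hwH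
    have hw2 : π (wH * wH) = 1 := (hker _).mpr (Or.inr hww)
    have hw1 : π wH ≠ 1 := fun e => hQP.sq_ne_one hww (by
      rcases (hker _).mp e with e | e
      · rw [show w = 1 from e, one_mul]
      · rw [show w = z from e, hzz])
    obtain ⟨g, hg, hgM⟩ := CfsgLib.Transfer.exists_conj_mem_of_pResidual_eq_top P' hperf M hidx
      (π wH) (by rw [sq, ← map_mul, hw2])
    obtain ⟨m, ⟨hmA, hmP⟩, hmg⟩ := hgM
    have hmg' : π m = g * π wH * g⁻¹ := hmg
    refine ⟨g, hmg'.symm.trans ?_⟩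
    have hmA' : v m ∈ zpowers a := hmA
    have hm1 : π m ≠ 1 := by
      rw [hmg']
      intro e
      rw [mul_inv_eq_one, mul_eq_left] at e
      exact hw1 e
    have hmm : π (m * m) = 1 := by
      rw [map_mul, hmg']
      calc g * π wH * g⁻¹ * (g * π wH * g⁻¹) = g * (π wH * π wH) * g⁻¹ := by group
        _ = 1 := by rw [← map_mul, hw2]; group
    have hsq : v m * v m = z := ((hker _).mp hmm).resolve_left fun e => hm1 ((hker _).mpr
      (hQP.sq_cases ((hmem m).mp hmP) e))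
    have hc : Commute (v m) (a ^ n) :=
      commute_of_mem_zpowers hmA' (Subgroup.pow_mem _ (mem_zpowers a) n)
    have h1 : π (m⁻¹ * c4) = 1 := (hker _).mpr (hQP.sq_cases
      (mul_mem (inv_mem ((hmem m).mp hmP)) haP) (by
        show (v m)⁻¹ * a ^ n * ((v m)⁻¹ * a ^ n) = 1
        rw [← sq, hc.inv_left.mul_pow, sq, sq, hn, ← mul_inv_rev, hsq, inv_mul_cancel]))
    rwa [map_mul, map_inv, inv_mul_eq_one] at h1
  obtain ⟨gx, hgx⟩ := key x hx hxx
  obtain ⟨gj, hgj⟩ := key j hj hjj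
  obtain ⟨c, hc⟩ := QuotientGroup.mk'_surjective (zpowers zH) (gx⁻¹ * gj)
  refine ⟨v c, c.2, ?_⟩
  have heq : π (c * ⟨⟨j, h.le hj.2⟩, hj.2⟩ * c⁻¹) = π ⟨⟨x, h.le hx.2⟩, hx.2⟩ := by
    rw [map_mul, map_mul, map_inv, show π c = gx⁻¹ * gj from hc]
    calc gx⁻¹ * gj * π ⟨⟨j, h.le hj.2⟩, hj.2⟩ * (gx⁻¹ * gj)⁻¹
        = gx⁻¹ * (gj * π ⟨⟨j, h.le hj.2⟩, hj.2⟩ * gj⁻¹) * gx := by group
      _ = gx⁻¹ * (gx * π ⟨⟨x, h.le hx.2⟩, hx.2⟩ * gx⁻¹) * gx := by rw [hgj, hgx]
      _ = π ⟨⟨x, h.le hx.2⟩, hx.2⟩ := by group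
  rw [eq_comm, QuotientGroup.mk'_eq_mk'] at heq
  obtain ⟨q, hq, hq'⟩ := heq
  obtain ⟨i, rfl⟩ := Subgroup.mem_zpowers_iff.mp hq
  have hv : x * z ^ i = v c * j * (v c)⁻¹ := by simpa [v, zH] using congrArg v hq'
  rcases hQP.sq_cases (zpow_mem hQP.mem i) (by
    rw [← zpow_add, ← two_mul, zpow_mul, zpow_two, invol_mul_self h.ord, one_zpow]) with e | e
  · exact Or.inl (by rw [← hv, e, mul_one])
  · exact Or.inr (by rw [← hv, e, inv_eq_mul_of_sq h.ord hxx])

end CfsgLib.UniqInvol
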