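import Cfsg.Agent.Lib.Components.UniqueInvol.InLayer

/-!
Elementary lemmas for the mutual normalization of 2-components with a single involution.
-/

set_option autoImplicit false
set_option linter.style.haveILetI false
set_option linter.unusedVariables false
set_option linter.unusedSectionVars false

namespace CfsgLib.UniqInvol

open Subgroup CfsgLib.Components
open scoped commutatorElement

universe u

/-- The computation in the quotient by the core behind the conjugacy of the pairs. -/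
theorem conj_calc {Q : Type u} [Group Q] {x j c0 y z k : Q} (hz : ∀ q : Q, q * z = z * q)
    (hzz : z * z = 1) (hxx : x * x = z) (hjj : j * j = z) (hjx : j * x * j⁻¹ = x⁻¹)
    (hc0 : c0 * j * c0⁻¹ = x ∨ c0 * j * c0⁻¹ = x⁻¹)
    (hcom : ∀ s s' : Q, s ∈ ({x, j, c0} : Set Q) → s' ∈ ({x, j, c0} : Set Q) →
      Commute s (y⁻¹ * s' * y))
    (hyy : y * y = k) (hk : k = x⁻¹ * (y⁻¹ * x * y) ∨ k = x⁻¹ * (y⁻¹ * x * y) * z) :
    (c0 * (y⁻¹ * c0 * y) * (j * (y⁻¹ * j * y)) * (c0 * (y⁻¹ * c0 * y))⁻¹ = k ∨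
      c0 * (y⁻¹ * c0 * y) * (j * (y⁻¹ * j * y)) * (c0 * (y⁻¹ * c0 * y))⁻¹ = k * z) ∧
    y⁻¹ * (c0 * (y⁻¹ * c0 * y) * k * (c0 * (y⁻¹ * c0 * y))⁻¹) * y *
      (c0 * (y⁻¹ * c0 * y) * k * (c0 * (y⁻¹ * c0 * y))⁻¹) = z := by
  have hzinv : z⁻¹ = z := inv_eq_of_mul_eq_one_right hzz
  let C0 := Subgroup.closure ({x, j, c0} : Set Q)
  have hx0 : x ∈ C0 := Subgroup.subset_closure (by simp)
  have hj0 : j ∈ C0 := Subgroup.subset_closure (by simp)
  have hc00 : c0 ∈ C0 := Subgroup.subset_closure (by simp)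
  let σ : Q →* Q := (MulAut.conj y⁻¹).toMonoidHom
  have hσ : ∀ q, σ q = y⁻¹ * q * y := fun q => by simp [σ]
  -- the group generated by `x, j, c0` commutes with its conjugate
  have hall : ∀ s ∈ C0, ∀ s' ∈ C0, Commute s (σ s') := by
    have h1 : ∀ s ∈ ({x, j, c0} : Set Q), ∀ s' ∈ C0, Commute s (σ s') := by
      intro s hs s' hs'
      have hle : C0 ≤ (centralizer ({s} : Set Q)).comap σ := (closure_le _).mpr fun t ht => by
        show σ t ∈ centralizer ({s} : Set Q)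
        rw [mem_centralizer_singleton_iff, hσ]
        exact (hcom s t hs ht).eq.symm
      exact (mem_centralizer_singleton_iff.mp (hle hs')).symm
    intro s hs s' hs'
    have hle : C0 ≤ centralizer ({σ s'} : Set Q) := (closure_le _).mpr fun t ht =>
      mem_centralizer_singleton_iff.mpr (h1 t ht s' hs').eq
    exact mem_centralizer_singleton_iff.mp (hle hs)
  simp only [← hσ] at hk ⊢
  have hsplit : ∀ s ∈ C0, ∀ t ∈ C0,
      c0 * σ c0 * (s * σ t) * (c0 * σ c0)⁻¹ = (c0 * s * c0⁻¹) * σ (c0 * t * c0⁻¹) := by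
    intro s hs t ht
    have e2 : Commute (σ (c0 * t * c0⁻¹)) c0⁻¹ :=
      (hall _ (inv_mem hc00) _ (mul_mem (mul_mem hc00 ht) (inv_mem hc00))).symm
    calc c0 * σ c0 * (s * σ t) * (c0 * σ c0)⁻¹
        = c0 * (σ c0 * s) * σ t * (σ c0)⁻¹ * c0⁻¹ := by group
      _ = c0 * (s * σ c0) * σ t * (σ c0)⁻¹ * c0⁻¹ := by rw [(hall s hs c0 hc00).eq]
      _ = c0 * s * (σ c0 * σ t * (σ c0)⁻¹ * c0⁻¹) := by group
      _ = c0 * s * (σ (c0 * t * c0⁻¹) * c0⁻¹) := by rw [map_mul, map_mul, map_inv]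
      _ = c0 * s * (c0⁻¹ * σ (c0 * t * c0⁻¹)) := by rw [e2.eq]
      _ = c0 * s * c0⁻¹ * σ (c0 * t * c0⁻¹) := by group
  have hσz : σ z = z := by rw [hσ, mul_assoc, ← hz y, inv_mul_cancel_left]
  have hxinv : x⁻¹ = x * z := inv_eq_of_mul_eq_one_right (by rw [← mul_assoc, hxx, hzz])
  have hxσx : x * σ x = x⁻¹ * σ x * z := by
    rw [hxinv, mul_assoc x z, ← hz (σ x), ← mul_assoc, mul_assoc (x * σ x), hzz, mul_one]
  constructor
  · rw [hsplit j hj0 j hj0]
    have he : (c0 * j * c0⁻¹) * σ (c0 * j * c0⁻¹) = x⁻¹ * σ x * z := by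
      rcases hc0 with h | h
      · rw [h, hxσx]
      · rw [h, map_inv, hxinv, ← map_inv, hxinv, map_mul, hσz, ← mul_assoc]
    rw [he]
    rcases hk with h | h
    · exact Or.inr (by rw [h])
    · exact Or.inl h.symm
  · set a := c0 * x * c0⁻¹ with ha
    have ha0 : a ∈ C0 := mul_mem (mul_mem hc00 hx0) (inv_mem hc00)
    have haa : a * a = z := by
      rw [ha]
      calc c0 * x * c0⁻¹ * (c0 * x * c0⁻¹) = c0 * (x * x) * c0⁻¹ := by group
        _ = z := by rw [hxx, hz c0, mul_inv_cancel_right]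
    have hxa : x * a * x⁻¹ = a⁻¹ := by
      have h1 : (c0 * j * c0⁻¹) * a * (c0 * j * c0⁻¹)⁻¹ = a⁻¹ := by
        rw [ha]
        calc c0 * j * c0⁻¹ * (c0 * x * c0⁻¹) * (c0 * j * c0⁻¹)⁻¹ = c0 * (j * x * j⁻¹) * c0⁻¹ := by group
          _ = (c0 * x * c0⁻¹)⁻¹ := by rw [hjx]; group
      rcases hc0 with h | h
      · rw [h] at h1; exact h1
      · rw [h, inv_inv] at h1
        calc x * a * x⁻¹ = (x * x) * (x⁻¹ * a * x) * (x * x)⁻¹ := by group
          _ = a⁻¹ := by rw [h1, hxx, ← hz a⁻¹, mul_inv_cancel_right]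
    have hσσ : σ (σ a) = x * a * x⁻¹ := by
      have h1 : σ (σ a) = k⁻¹ * a * k := by
        rw [hσ, hσ, ← hyy]; group
      have hc : Commute (x * a * x⁻¹) (σ x) := hall _ (mul_mem (mul_mem hx0 ha0) (inv_mem hx0)) _ hx0
      have h2 : (x⁻¹ * σ x)⁻¹ * a * (x⁻¹ * σ x) = x * a * x⁻¹ := by
        calc (x⁻¹ * σ x)⁻¹ * a * (x⁻¹ * σ x) = (σ x)⁻¹ * ((x * a * x⁻¹) * σ x) := by group
          _ = (σ x)⁻¹ * (σ x * (x * a * x⁻¹)) := by rw [hc.eq]
          _ = x * a * x⁻¹ := by group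
      rw [h1]
      rcases hk with h | h
      · rw [h, h2]
      · rw [h]
        calc (x⁻¹ * σ x * z)⁻¹ * a * (x⁻¹ * σ x * z)
            = z⁻¹ * ((x⁻¹ * σ x)⁻¹ * a * (x⁻¹ * σ x)) * z := by group
          _ = x * a * x⁻¹ := by rw [h2, hzinv, mul_assoc, hz (x * a * x⁻¹), ← mul_assoc, hzz, one_mul]
    have hkey : σ (a⁻¹ * σ a) * (a⁻¹ * σ a) = z := by
      rw [map_mul, hσσ, hxa, map_inv]
      calc (σ a)⁻¹ * a⁻¹ * (a⁻¹ * σ a) = (σ a)⁻¹ * (a * a)⁻¹ * σ a := by group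
        _ = z := by rw [haa, hzinv, hz (σ a)⁻¹, mul_assoc, inv_mul_cancel, mul_one]
    have hb : c0 * σ c0 * (x⁻¹ * σ x) * (c0 * σ c0)⁻¹ = a⁻¹ * σ a := by
      rw [hsplit x⁻¹ (inv_mem hx0) x hx0]
      congr 1
      rw [ha]; group
    rcases hk with h | h
    · rw [h, hb]; exact hkey
    · rw [h]
      have e : c0 * σ c0 * (x⁻¹ * σ x * z) * (c0 * σ c0)⁻¹ = a⁻¹ * σ a * z := by
        rw [← hb]
        calc c0 * σ c0 * (x⁻¹ * σ x * z) * (c0 * σ c0)⁻¹
            = c0 * σ c0 * (x⁻¹ * σ x) * (z * (c0 * σ c0)⁻¹) := by group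
          _ = c0 * σ c0 * (x⁻¹ * σ x) * ((c0 * σ c0)⁻¹ * z) := by rw [hz]
          _ = c0 * σ c0 * (x⁻¹ * σ x) * (c0 * σ c0)⁻¹ * z := by group
      rw [e, map_mul, hσz, mul_assoc (σ (a⁻¹ * σ a)) z, ← hz (a⁻¹ * σ a * z), ← mul_assoc, ← mul_assoc,
        hkey, mul_assoc, hzz, mul_one]

variable {G : Type u} [Group G] [Finite G] {J J1 K : Subgroup G} {z zJ zK : G}

/-- Two involutions congruent modulo the core are conjugate by an element of the core. -/
theorem exists_core_conj {a b : G} (ha : orderOf a = 2) (hb : orderOf b = 2)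
    (hab : a⁻¹ * b ∈ core z) : ∃ o ∈ core z, o * a * o⁻¹ = b := by
  rw [invol_inv ha] at hab
  obtain ⟨r, hr⟩ : ∃ r, orderOf (a * b) = 2 * r + 1 := by
    have h1 : orderOf (a * b) ∣ Nat.card (core z) := by
      have h := orderOf_dvd_natCard (⟨a * b, hab⟩ : ↥(core z))
      rwa [Subgroup.orderOf_mk] at h
    rcases Nat.even_or_odd (orderOf (a * b)) with h | h
    · exfalso
      have h2 : 2 ∣ Nat.card (core z) := dvd_trans (even_iff_two_dvd.mp h) h1
      have := Nat.eq_one_of_dvd_coprimes (core_coprime z) h2 dvd_rfl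
      omega
    · exact h
  refine ⟨(a * b) ^ r, pow_mem hab r, ?_⟩
  have hflip : a * ((a * b) ^ r)⁻¹ = (a * b) ^ r * a := by
    have h1 : a * (a * b)⁻¹ * a⁻¹ = a * b := by
      rw [mul_inv_rev, invol_inv ha, invol_inv hb]
      calc a * (b * a) * a = a * b * (a * a) := by group
        _ = a * b := by rw [invol_mul_self ha, mul_one]
    have h2 : a * ((a * b) ^ r)⁻¹ * a⁻¹ = (a * b) ^ r := by
      rw [← inv_pow, ← conj_pow, h1]
    calc a * ((a * b) ^ r)⁻¹ = a * ((a * b) ^ r)⁻¹ * a⁻¹ * a := by group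
      _ = (a * b) ^ r * a := by rw [h2]
  have h3 : (a * b) ^ (2 * r) = (a * b)⁻¹ := by
    rw [eq_inv_iff_mul_eq_one, ← pow_succ, ← hr, pow_orderOf_eq_one]
  calc (a * b) ^ r * a * ((a * b) ^ r)⁻¹ = (a * b) ^ r * (a * ((a * b) ^ r)⁻¹) := by group
    _ = (a * b) ^ (2 * r) * a := by rw [hflip, ← mul_assoc, ← pow_add, two_mul]
    _ = b := by rw [h3, mul_inv_rev, invol_inv ha, invol_inv hb, mul_assoc, invol_mul_self ha, mul_one]

/-- Conjugation carries cores to cores. -/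
theorem core_cj {o : G} (g : G) (ho : o ∈ core z) : g * o * g⁻¹ ∈ core (g * z * g⁻¹) := by
  have hC : cj g (centralizer ({z} : Set G)) = centralizer ({g * z * g⁻¹} : Set G) := by
    rw [cj, CfsgLib.GenFittingSub.map_conj_centralizer, Set.image_singleton, MulAut.conj_apply]
  let e : ↥(centralizer ({z} : Set G)) ≃* ↥(centralizer ({g * z * g⁻¹} : Set G)) :=
    ((MulAut.conj g).subgroupMap _).trans (MulEquiv.subgroupCongr hC)
  obtain ⟨x, hx, rfl⟩ := ho
  refine ⟨e x, ?_, rfl⟩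
  have h1 : e x ∈ (Cfsg.pPrimeCore 2 ↥(centralizer ({z} : Set G))).map e.toMonoidHom := ⟨x, hx, rfl⟩
  rwa [pPrimeCore_map_equiv] at h1

/-- A 2-element of `K` of order at least four has a power squaring to the involution. -/
theorem UI.exists_sq_root (hK : UI K z) {y : G} (hy : y ∈ K) (h2 : Is2 y) (hy2 : y * y ≠ 1) :
    ∃ n : ℕ, y ^ n * y ^ n = z := by
  obtain ⟨T, hT, hle⟩ := exists_syl (is2_zpowers h2) (zpowers_le.mpr (hK.le hy))
  exact (hK.qp hT).exists_pow_sq ⟨hle (mem_zpowers y), hy⟩ hy2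

theorem QP.exists_four {P : Subgroup G} (hP : QP P z) : ∃ x ∈ P, x * x = z := by
  obtain ⟨a, ha, ha2, -, -⟩ := hP.data
  obtain ⟨n, hn⟩ := hP.exists_pow_sq ha ha2
  exact ⟨a ^ n, pow_mem ha n, hn⟩

/-- A Sylow 2-subgroup normalizes its intersection with what it normalizes. -/
theorem le_normalizer_inf (T K : Subgroup G) :
    T ⊓ normalizer (K : Set G) ≤ normalizer ((T ⊓ K : Subgroup G) : Set G) := by
  intro g hg
  refine mem_normalizer_fintype fun x hx => ?_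
  obtain ⟨hgT, hgN⟩ := Subgroup.mem_inf.mp hg
  obtain ⟨hxT, hxK⟩ := Subgroup.mem_inf.mp hx
  exact Subgroup.mem_inf.mpr ⟨mul_mem (mul_mem hgT hxT) (inv_mem hgT), (mem_normalizer_iff.mp hgN x).mp hxK⟩

theorem inf_le_inf_normalizer (T K : Subgroup G) : T ⊓ K ≤ T ⊓ normalizer (K : Set G) :=
  inf_le_inf le_rfl le_normalizer

theorem conj_comm_of_comm {g a b : G} (h : a * b = b * a) :
    g * a * g⁻¹ * (g * b * g⁻¹) = g * b * g⁻¹ * (g * a * g⁻¹) := by
  calc g * a * g⁻¹ * (g * b * g⁻¹) = g * (a * b) * g⁻¹ := by group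
    _ = g * (b * a) * g⁻¹ := by rw [h]
    _ = g * b * g⁻¹ * (g * a * g⁻¹) := by group

theorem sq_conj {g a c : G} (h : a * a = c) : g * a * g⁻¹ * (g * a * g⁻¹) = g * c * g⁻¹ := by
  rw [← h]; group

/-- The involutions at two such components commute when one normalizes the other component. -/
theorem UI.comm_of_cj (hK : UI K zK) {t : G} (h : cj t K = K) : t * zK = zK * t := by
  rw [← conj_eq_self_iff]
  exact hK.uniq _ (conj_mem_of_cj_eq h hK.mem)
    ((orderOf_injective (MulAut.conj t).toMonoidHom (MulAut.conj t).injective zK).trans hK.ord)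

/-- Conjugating an involution by an element whose inverse it turns it into. -/
theorem conj_of_inverted {t j w : G} (ht : orderOf t = 2) (hjj : j * j = w) (h : t * j * t = j⁻¹) :
    j * t * j⁻¹ = w * t := by
  rw [← h, ← hjj]
  calc j * t * (t * j * t) = j * (t * t) * j * t := by group
    _ = j * j * t := by rw [invol_mul_self ht, mul_one]

end CfsgLib.UniqInvol
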