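import Cfsg.Agent.Lib.Components.UniqueInvol.Layer

/-!
Membership in a 2-component of the centralizer of two commuting involutions.
-/

set_option autoImplicit false
set_option linter.style.haveILetI false
set_option linter.unusedVariables false
set_option linter.unusedSectionVars false

namespace CfsgLib.UniqInvol

open Subgroup CfsgLib.Components
open scoped commutatorElement

universe u

variable {G : Type u} [Group G] [Finite G]

/-- `w` lies in a 2-component of `C(a) ∩ C(b)`. -/
def InLayer (a b w : G) : Prop :=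
  ∃ hw : w ∈ centralizer ({a} : Set G) ⊓ centralizer ({b} : Set G),
    ∃ E : Subgroup ↥(centralizer ({a} : Set G) ⊓ centralizer ({b} : Set G)),
      Cfsg.IsPComponent 2 E ∧ (⟨w, hw⟩ : ↥(centralizer ({a} : Set G) ⊓ centralizer ({b} : Set G))) ∈ E

theorem InLayer.symm {a b w : G} (h : InLayer a b w) : InLayer b a w := by
  obtain ⟨hw, E, hE, hwE⟩ := h
  let e : ↥(centralizer ({a} : Set G) ⊓ centralizer ({b} : Set G)) ≃*
      ↥(centralizer ({b} : Set G) ⊓ centralizer ({a} : Set G)) := MulEquiv.subgroupCongr (inf_comm _ _)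
  exact ⟨inf_comm (centralizer ({b} : Set G)) _ ▸ hw, E.map e.toMonoidHom,
    isPComponent_map_equiv e hE, ⟨_, hwE, rfl⟩⟩

theorem InLayer.conj {a b w : G} (h : InLayer a b w) (g : G) :
    InLayer (g * a * g⁻¹) (g * b * g⁻¹) (g * w * g⁻¹) := by
  obtain ⟨hw, E, hE, hwE⟩ := h
  have hC : cj g (centralizer ({a} : Set G) ⊓ centralizer ({b} : Set G)) =
      centralizer ({g * a * g⁻¹} : Set G) ⊓ centralizer ({g * b * g⁻¹} : Set G) := by
    rw [cj, Subgroup.map_inf_eq _ _ _ (MulAut.conj g).injective,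
      CfsgLib.GenFittingSub.map_conj_centralizer, CfsgLib.GenFittingSub.map_conj_centralizer,
      Set.image_singleton, Set.image_singleton, MulAut.conj_apply, MulAut.conj_apply]
  let e := ((MulAut.conj g).subgroupMap
    (centralizer ({a} : Set G) ⊓ centralizer ({b} : Set G))).trans (MulEquiv.subgroupCongr hC)
  exact ⟨hC.le ⟨w, hw, rfl⟩, E.map e.toMonoidHom, isPComponent_map_equiv e hE,
    ⟨⟨w, hw⟩, hwE, rfl⟩⟩

/-- The two descriptions of the centralizer of two commuting elements. -/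
noncomputable def centEquiv {a b : G} (hb : b ∈ centralizer ({a} : Set G)) :
    ↥(centralizer ({(⟨b, hb⟩ : ↥(centralizer ({a} : Set G)))} : Set ↥(centralizer ({a} : Set G)))) ≃*
      ↥(centralizer ({a} : Set G) ⊓ centralizer ({b} : Set G)) where
  toFun x := ⟨((x : ↥(centralizer ({a} : Set G))) : G), (x : ↥(centralizer ({a} : Set G))).2,
    mem_centralizer_singleton_iff.mpr (congrArg Subtype.val (mem_centralizer_singleton_iff.mp x.2))⟩
  invFun x := ⟨⟨x, x.2.1⟩, mem_centralizer_singleton_iff.mpr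
    (Subtype.ext (mem_centralizer_singleton_iff.mp x.2.2))⟩
  left_inv _ := rfl
  right_inv _ := rfl
  map_mul' _ _ := rfl

theorem InLayer.intro {a b : G} (hb : b ∈ centralizer ({a} : Set G))
    {w : ↥(centralizer ({(⟨b, hb⟩ : ↥(centralizer ({a} : Set G)))} : Set ↥(centralizer ({a} : Set G))))}
    {E : Subgroup ↥(centralizer ({(⟨b, hb⟩ : ↥(centralizer ({a} : Set G)))} : Set ↥(centralizer ({a} : Set G))))}
    (hE : Cfsg.IsPComponent 2 E) (hw : w ∈ E) :
    InLayer a b ((w : ↥(centralizer ({a} : Set G))) : G) :=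
  ⟨((centEquiv hb) w).2, E.map (centEquiv hb).toMonoidHom, isPComponent_map_equiv _ hE, ⟨w, hw, rfl⟩⟩

theorem InLayer.elim {a b w : G} (h : InLayer a b w) (hb : b ∈ centralizer ({a} : Set G)) :
    ∃ w' : ↥(centralizer ({(⟨b, hb⟩ : ↥(centralizer ({a} : Set G)))} : Set ↥(centralizer ({a} : Set G)))),
      ((w' : ↥(centralizer ({a} : Set G))) : G) = w ∧ ∃ E : Subgroup _, Cfsg.IsPComponent 2 E ∧ w' ∈ E := by
  obtain ⟨hw, E, hE, hwE⟩ := h
  exact ⟨(centEquiv hb).symm ⟨w, hw⟩, rfl, E.map (centEquiv hb).symm.toMonoidHom,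
    isPComponent_map_equiv _ hE, ⟨_, hwE, rfl⟩⟩

variable {J K : Subgroup G} {z : G}

/-- L-balance: a member of the layer of `C(z) ∩ C(b)` normalizes the components at `z`. -/
theorem InLayer.cj_eq {b w : G} (h : InLayer z b w) (hK : UI K z) (hb : orderOf b = 2)
    (hbz : b * z = z * b) : cj w K = K := by
  haveI : Fact (Nat.Prime 2) := ⟨Nat.prime_two⟩
  obtain ⟨w', hw', E, hE, hwE⟩ := h.elim (mem_centralizer_comm.mpr hbz)
  have hR : IsPGroup 2 ↥(zpowers (⟨b, mem_centralizer_comm.mpr hbz⟩ : ↥(centralizer ({z} : Set G)))) :=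
    is2_zpowers ⟨1, Subtype.ext (by simp [sq, invol_mul_self hb])⟩
  have hb' := pLayer_centralizer_two_le hR
  rw [CfsgLib.Balance.centralizer_zpowers] at hb'
  have hn := pLayer_le_normalizer_pComponent hK.comp (hb' ⟨w', pComponent_le_pLayer hE hwE, rfl⟩)
  refine map_conj_eq_of_mem_normalizer (mem_normalizer_fintype fun x hx => ?_)
  rw [← hw']
  exact (mem_normalizer_iff.mp hn ⟨x, hK.le hx⟩).mp hx

/-- A 2-element of the layer of `C(z) ∩ C(b)` lies in a `b`-invariant component or centralizes it. -/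
theorem InLayer.mem_or_commutator {b w : G} (h : InLayer z b w) (hK : UI K z) (hb : orderOf b = 2)
    (hbz : b * z = z * b) (hbK : cj b K = K) (h2 : Is2 w) :
    w ∈ K ∨ ∀ k ∈ K, ⁅w, k⁆ ∈ core z := by
  obtain ⟨w', hw', E, hE, hwE⟩ := h.elim (mem_centralizer_comm.mpr hbz)
  have hb2 : orderOf (⟨b, mem_centralizer_comm.mpr hbz⟩ : ↥(centralizer ({z} : Set G))) = 2 := by
    rw [Subgroup.orderOf_mk]; exact hb
  have hn : (⟨b, mem_centralizer_comm.mpr hbz⟩ : ↥(centralizer ({z} : Set G))) ∈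
      normalizer ((K.subgroupOf (centralizer ({z} : Set G))) : Set ↥(centralizer ({z} : Set G))) :=
    mem_normalizer_fintype fun x hx => conj_mem_of_cj_eq (H := K) (x := (x : G)) hbK hx
  have hw2 : Is2 w' := by
    obtain ⟨k, hk⟩ := h2
    exact ⟨k, Subtype.ext (Subtype.ext (by
      show ((w' : ↥(centralizer ({z} : Set G))) : G) ^ 2 ^ k = 1
      rw [hw', hk]))⟩
  rcases cent_component hK.comp hb2 hn hE hwE hw2 with h' | h'
  · left
    rw [← hw']
    exact h'
  · right
    intro k hk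
    rw [← hw']
    exact ⟨_, h' ⟨k, hK.le hk⟩ hk, rfl⟩

/-- The diagonal of a component moved by an involution gives members of the layer. -/
theorem UI.diag_inLayer (hK : UI K z) {b : G} (hb : orderOf b = 2) (hbz : b * z = z * b)
    (hne : cj b K ≠ K) {y : G} (hy : y ∈ K) {w : G} (hw2 : Is2 w) (hw1 : w ≠ 1)
    (hwz : w * z = z * w) (hwb : w * b = b * w) {n : ℕ} (hn : (y * (b * y * b)) ^ n = w) :
    InLayer z b w := by
  haveI : Fact (Nat.Prime 2) := ⟨Nat.prime_two⟩
  set π := QuotientGroup.mk' (Cfsg.pPrimeCore 2 ↥(centralizer ({z} : Set G))) with hπ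
  set b' : ↥(centralizer ({z} : Set G)) := ⟨b, mem_centralizer_comm.mpr hbz⟩ with hb'
  set KC := K.subgroupOf (centralizer ({z} : Set G)) with hKC
  have hbb : π b' * π b' = 1 := by
    rw [← map_mul, show b' * b' = 1 from Subtype.ext (invol_mul_self hb), map_one]
  have hmov : cj (π b') (KC.map π) ≠ KC.map π := by
    intro e
    apply hne
    have hn : π b' ∈ normalizer ((KC.map π) : Set _) := mem_normalizer_iff_map_conj_eq.mpr e
    have hn' := mem_normalizer_pComponent hK.comp hn
    refine map_conj_eq_of_mem_normalizer (mem_normalizer_fintype fun x hx => ?_)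
    exact (mem_normalizer_iff.mp hn' ⟨x, hK.le hx⟩).mp hx
  obtain ⟨D, hD, hmem⟩ := diag_component hK.comp.2.1 hbb hmov
    (y := π ⟨y, hK.le hy⟩) ⟨⟨y, hK.le hy⟩, hy, rfl⟩
  let w' : ↥(centralizer ({b'} : Set ↥(centralizer ({z} : Set G)))) :=
    ⟨⟨w, mem_centralizer_comm.mpr hwz⟩, mem_centralizer_comm.mpr (Subtype.ext hwb)⟩
  have hwD : π (w' : ↥(centralizer ({z} : Set G))) ∈
      D.map (centralizer ({π b'} : Set _)).subtype := by
    have he : (w' : ↥(centralizer ({z} : Set G))) =
        ((⟨y, hK.le hy⟩ : ↥(centralizer ({z} : Set G))) * (b' * ⟨y, hK.le hy⟩ * b')) ^ n :=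
      Subtype.ext hn.symm
    rw [he, map_pow, map_mul, map_mul, map_mul]
    exact pow_mem hmem n
  have hb2 : Is2 b' := ⟨1, Subtype.ext (by simp [hb', sq, invol_mul_self hb])⟩
  have hw2' : Is2 w' := by
    obtain ⟨k, hk⟩ := hw2
    exact ⟨k, Subtype.ext (Subtype.ext hk)⟩
  rcases lift_component hb2 hD hw2' hwD with h | ⟨E, hE, hwE⟩
  · exact absurd (congrArg Subtype.val (congrArg Subtype.val h)) hw1
  · exact InLayer.intro _ hE hwE

/-- A component centralized by an involution gives a member of the layer. -/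
theorem UI.central_inLayer (hK : UI K z) {t : G} (ht : orderOf t = 2) (htz : t * z = z * t)
    (hcent : ∀ k ∈ K, ⁅t, k⁆ ∈ core z) : InLayer z t z := by
  haveI : Fact (Nat.Prime 2) := ⟨Nat.prime_two⟩
  set π := QuotientGroup.mk' (Cfsg.pPrimeCore 2 ↥(centralizer ({z} : Set G))) with hπ
  set t' : ↥(centralizer ({z} : Set G)) := ⟨t, mem_centralizer_comm.mpr htz⟩ with ht'
  set KC := K.subgroupOf (centralizer ({z} : Set G)) with hKC
  have hle : KC.map π ≤ centralizer ({π t'} : Set _) := by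
    rintro _ ⟨k, hk, rfl⟩
    rw [mem_centralizer_singleton_iff, eq_comm, ← commutatorElement_eq_one_iff_mul_comm,
      ← map_commutatorElement]
    refine (QuotientGroup.eq_one_iff _).mpr ?_
    have h := (mem_core_iff (g := ⁅t, (k : G)⁆) (mul_mem (mul_mem (mul_mem (mem_centralizer_comm.mpr htz) k.2)
      (inv_mem (mem_centralizer_comm.mpr htz))) (inv_mem k.2))).mp (hcent k hk)
    exact h
  let w' : ↥(centralizer ({t'} : Set ↥(centralizer ({z} : Set G)))) :=
    ⟨⟨z, hK.le hK.mem⟩, mem_centralizer_comm.mpr (Subtype.ext htz.symm)⟩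
  have hwD : π (w' : ↥(centralizer ({z} : Set G))) ∈
      ((KC.map π).subgroupOf (centralizer ({π t'} : Set _))).map (centralizer ({π t'} : Set _)).subtype := by
    rw [map_subgroupOf_eq_of_le hle]
    exact ⟨⟨z, hK.le hK.mem⟩, hK.mem, rfl⟩
  have ht2 : Is2 t' := ⟨1, Subtype.ext (by simp [ht', sq, invol_mul_self ht])⟩
  have hw2 : Is2 w' := ⟨1, Subtype.ext (Subtype.ext (by simp [w', sq, invol_mul_self hK.ord]))⟩
  rcases lift_component ht2 (component_subgroupOf hK.comp.2.1 hle) hw2 hwD with h | ⟨E, hE, hwE⟩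
  · exfalso
    have h1 : z = 1 := congrArg Subtype.val (congrArg Subtype.val h)
    have := hK.ord
    rw [h1, orderOf_one] at this
    omega
  · exact InLayer.intro _ hE hwE

/-- Elements of a 2-group commuting modulo the core commute. -/
theorem comm_of_commutator_core {R : Subgroup G} (hR : IsPGroup 2 R) {w k : G} (hw : w ∈ R)
    (hk : k ∈ R) (h : ⁅w, k⁆ ∈ core z) : w * k = k * w :=
  commutatorElement_eq_one_iff_mul_comm.mp (eq_one_of_is2_core
    (is2_of_mem hR (mul_mem (mul_mem (mul_mem hw hk) (inv_mem hw)) (inv_mem hk))) h)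

end CfsgLib.UniqInvol
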