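import Cfsg.Agent.Lib.Components.UniqueInvol.Basic
import Cfsg.Agent.Lib.Components.LBalanceTwo

/-!
2-components of the centralizer of an involution acting on a 2-component.
-/

set_option autoImplicit false
set_option linter.style.haveILetI false
set_option linter.unusedVariables false
set_option linter.unusedSectionVars false

namespace CfsgLib.UniqInvol

open Subgroup CfsgLib.Components
open scoped commutatorElement

universe u

/-! ### Inside one group -/

section
variable {X : Type u} [Group X] [Finite X]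

/-- The normalizer of a subgroup normalizes its centralizer. -/
theorem normalizer_le_normalizer_cent (B : Subgroup X) :
    normalizer (B : Set X) ≤ normalizer (centralizer (B : Set X) : Set X) := by
  intro g hg
  refine mem_normalizer_fintype fun c hc => ?_
  rw [SetLike.mem_coe, mem_centralizer_iff] at hc ⊢
  intro b hb
  have h1 := hc _ ((mem_normalizer_iff.mp (inv_mem hg) b).mp hb)
  rw [inv_inv] at h1
  calc b * (g * c * g⁻¹) = g * (g⁻¹ * b * g * c) * g⁻¹ := by group
    _ = g * (c * (g⁻¹ * b * g)) * g⁻¹ := by rw [h1]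
    _ = g * c * g⁻¹ * b := by group

/-- A 2-element in `A ⊔ N`, with `N` of odd order and `A` subnormal, lies in `A`. -/
theorem mem_of_sup_odd {A N : Subgroup X} (hA : A.IsSubnormal) (hN : N.Normal)
    (hodd : (Nat.card N).Coprime 2) {w : X} (hw : w ∈ A ⊔ N) (h2 : Is2 w) : w ∈ A := by
  haveI := hN
  obtain ⟨k, hk⟩ := h2
  refine mem_of_coprime_index (p := 2) (H := A.subgroupOf (A ⊔ N)) hA.subgroupOf ?_
    (x := ⟨w, hw⟩) (k := k) (Subtype.ext hk)
  refine Nat.Coprime.coprime_dvd_left ?_ hodd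
  show A.relIndex (A ⊔ N) ∣ Nat.card N
  have h1 := card_sup_dvd (A := A) (B := N) le_normalizer_of_normal
  have h2' : Nat.card A * A.relIndex (A ⊔ N) = Nat.card ↥(A ⊔ N) := by
    rw [relIndex, ← Nat.card_congr (subgroupOfEquivOfLe (le_sup_left : A ≤ A ⊔ N)).toEquiv,
      card_mul_index]
  rw [← h2'] at h1
  exact Nat.dvd_of_mul_dvd_mul_left Nat.card_pos h1

/-- Passing a component of the centralizer in the quotient by the core up to the centralizer. -/
theorem lift_component {t : X} (ht : Is2 t)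
    {D : Subgroup ↥(centralizer ({QuotientGroup.mk' (Cfsg.pPrimeCore 2 X) t} : Set (X ⧸ Cfsg.pPrimeCore 2 X)))}
    (hD : Cfsg.IsComponent D) {w : ↥(centralizer ({t} : Set X))} (hw : Is2 w)
    (hwD : QuotientGroup.mk' (Cfsg.pPrimeCore 2 X) (w : X) ∈
      D.map (centralizer ({QuotientGroup.mk' (Cfsg.pPrimeCore 2 X) t} : Set _)).subtype) :
    w = 1 ∨ ∃ E : Subgroup ↥(centralizer ({t} : Set X)), Cfsg.IsPComponent 2 E ∧ w ∈ E := by
  haveI : Fact (Nat.Prime 2) := ⟨Nat.prime_two⟩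
  have himg : centralizer ({(QuotientGroup.mk' (Cfsg.pPrimeCore 2 X)) t} : Set (X ⧸ Cfsg.pPrimeCore 2 X)) = (centralizer ({t} : Set X)).map (QuotientGroup.mk' (Cfsg.pPrimeCore 2 X)) := by
    have h := CfsgLib.PLoc.centralizer_map_eq (QuotientGroup.mk'_surjective (Cfsg.pPrimeCore 2 X))
      (p := 2) (by rw [QuotientGroup.ker_mk']; exact coprime_card_pPrimeCore 2) (is2_zpowers ht)
    rw [MonoidHom.map_zpowers, CfsgLib.Balance.centralizer_zpowers,
      CfsgLib.Balance.centralizer_zpowers] at h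
    exact h
  let e : ↥((centralizer ({t} : Set X)).map (QuotientGroup.mk' (Cfsg.pPrimeCore 2 X))) ≃* ↥(centralizer ({(QuotientGroup.mk' (Cfsg.pPrimeCore 2 X)) t} : Set (X ⧸ Cfsg.pPrimeCore 2 X))) :=
    MulEquiv.subgroupCongr himg.symm
  let f : ↥(centralizer ({t} : Set X)) →* ↥(centralizer ({(QuotientGroup.mk' (Cfsg.pPrimeCore 2 X)) t} : Set (X ⧸ Cfsg.pPrimeCore 2 X))) :=
    e.toMonoidHom.comp (((QuotientGroup.mk' (Cfsg.pPrimeCore 2 X))).subgroupMap (centralizer ({t} : Set X)))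
  have hf : Function.Surjective f := e.surjective.comp (MonoidHom.subgroupMap_surjective (QuotientGroup.mk' (Cfsg.pPrimeCore 2 X)) (centralizer ({t} : Set X)))
  have hfker : f.ker ≤ Cfsg.pPrimeCore 2 ↥(centralizer ({t} : Set X)) := by
    refine le_pPrimeCore_of_normal inferInstance ?_
    have hle : f.ker.map (centralizer ({t} : Set X)).subtype ≤ Cfsg.pPrimeCore 2 X := by
      rintro _ ⟨x, hx, rfl⟩
      exact (QuotientGroup.eq_one_iff _).mp (congrArg Subtype.val hx)
    rw [← card_map_of_injective (Subgroup.subtype_injective (centralizer ({t} : Set X)))]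
    exact Nat.Coprime.coprime_dvd_left (card_dvd_of_le hle) (coprime_card_pPrimeCore 2)
  let q := QuotientGroup.mk' (Cfsg.pPrimeCore 2 ↥(centralizer ({t} : Set X)))
  have hq : f.ker ≤ q.ker := hfker.trans (QuotientGroup.ker_mk' _).ge
  let g := f.liftOfSurjective hf ⟨q, hq⟩
  have hg : ∀ x, g (f x) = q x := fun x =>
    MonoidHom.liftOfRightInverse_comp_apply f _ _ ⟨q, hq⟩ x
  have hgs : Function.Surjective g := fun y => by
    obtain ⟨x, rfl⟩ := QuotientGroup.mk'_surjective _ y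
    exact ⟨f x, hg x⟩
  have hfwD : f w ∈ D := by
    obtain ⟨d, hd, hdw⟩ := hwD
    exact (Subtype.ext hdw : d = f w) ▸ hd
  by_cases hne : D.map g = ⊥
  · left
    have h1 : q w = 1 := by
      rw [← hg, ← Subgroup.mem_bot, ← hne]
      exact ⟨_, hfwD, rfl⟩
    exact eq_one_of_is2_coprime hw (coprime_card_pPrimeCore (G := ↥(centralizer ({t} : Set X))) 2) (congrArg Subtype.val
      (pow_card_eq_one' (x := (⟨w, (QuotientGroup.eq_one_iff w).mp h1⟩ : ↥(Cfsg.pPrimeCore 2 ↥(centralizer ({t} : Set X)))))))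
  · right
    have hD' := component_map_of_surjective hgs hD hne
    refine ⟨pComponentOver 2 (D.map g), isPComponent_over hD', ?_⟩
    obtain ⟨k, hk⟩ := hw
    exact mem_pElements (show q w ∈ D.map g from ⟨_, hfwD, hg w⟩) hk

/-- The diagonal of a component moved by an involution. -/
theorem diag_component {K : Subgroup X} (hK : Cfsg.IsComponent K) {t : X} (ht : t * t = 1)
    (hne : cj t K ≠ K) {y : X} (hy : y ∈ K) :
    ∃ D : Subgroup ↥(centralizer ({t} : Set X)), Cfsg.IsComponent D ∧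
      y * (t * y * t) ∈ D.map (centralizer ({t} : Set X)).subtype := by
  have htinv : t⁻¹ = t := inv_eq_of_mul_eq_one_right ht
  set K' := cj t K with hK'
  have hK'c : Cfsg.IsComponent K' := component_map_conj hK t
  have hto : ∀ x : X, t * (t * x * t) * t = x := fun x => by
    calc t * (t * x * t) * t = (t * t) * x * (t * t) := by group
      _ = x := by rw [ht, one_mul, mul_one]
  have htK : ∀ x ∈ K, t * x * t ∈ K' := fun x hx => ⟨x, hx, by
    show t * x * t⁻¹ = _
    rw [htinv]⟩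
  have htK' : ∀ x ∈ K', t * x * t ∈ K := by
    rintro _ ⟨x, hx, rfl⟩
    show t * (t * x * t⁻¹) * t ∈ K
    rwa [htinv, hto]
  have hcomm : ∀ x ∈ K, ∀ x' ∈ K', x * x' = x' * x := fun x hx x' hx' =>
    (mem_centralizer_iff.mp (le_centralizer_of_commutator_eq_bot
      (component_commutator_of_ne hK hK'c (Ne.symm hne)) hx) x' hx').symm
  let φ : ↥K →* X :=
    { toFun := fun d => d * (t * d * t)
      map_one' := by simp [ht]
      map_mul' := fun d e => by
        show (d : X) * e * (t * (d * e) * t) = d * (t * d * t) * (e * (t * e * t))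
        have h1 := hcomm _ e.2 _ (htK _ d.2)
        calc (d : X) * e * (t * (d * e) * t) = d * e * (t * d * (t * t) * e * t) := by
              rw [ht, mul_one]; group
          _ = d * (e * (t * d * t)) * (t * e * t) := by group
          _ = d * ((t * d * t) * e) * (t * e * t) := by rw [h1]
          _ = d * (t * d * t) * (e * (t * e * t)) := by group }
  set C := centralizer ({t} : Set X) with hC
  have hfix : ∀ x : X, x ∈ C ↔ t * x * t = x := by
    intro x
    rw [mem_centralizer_singleton_iff]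
    constructor
    · intro h; rw [← h, mul_assoc, ht, mul_one]
    · intro h; calc x * t = (t * x * t) * t := by rw [h]
        _ = t * x * (t * t) := by group
        _ = t * x := by rw [ht, mul_one]
  have hφC : ∀ d, φ d ∈ C := by
    intro d
    rw [hfix]
    show t * ((d : X) * (t * d * t)) * t = d * (t * d * t)
    calc t * ((d : X) * (t * d * t)) * t = (t * d * t) * d * (t * t) := by group
      _ = (t * d * t) * d := by rw [ht, mul_one]
      _ = d * (t * d * t) := (hcomm _ d.2 _ (htK _ d.2)).symm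
  have hrC : φ.range ≤ C := by rintro _ ⟨d, rfl⟩; exact hφC d
  have hφne : φ.range ≠ ⊥ := by
    intro hb
    apply hne
    refine le_antisymm ?_ ?_
    · intro x hx
      have hd := htK' x hx
      have h1 : φ ⟨_, hd⟩ = 1 := by rw [← Subgroup.mem_bot, ← hb]; exact ⟨_, rfl⟩
      have h2 : (t * x * t) * (t * (t * x * t) * t) = 1 := h1
      rw [hto] at h2
      rw [eq_inv_of_mul_eq_one_right h2]
      exact inv_mem hd
    · intro x hx
      have h1 : φ ⟨x, hx⟩ = 1 := by rw [← Subgroup.mem_bot, ← hb]; exact ⟨_, rfl⟩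
      have h2 : x * (t * x * t) = 1 := h1
      rw [eq_inv_of_mul_eq_one_left h2]
      exact inv_mem (htK x hx)
  set W := K ⊔ K' with hW
  have hWL : W ≤ Cfsg.layer X := sup_le (component_le_layer hK) (component_le_layer hK'c)
  have hLW : Cfsg.layer X ≤ normalizer (W : Set X) := by
    refine le_trans (le_inf (layer_le_normalizer_component hK) (layer_le_normalizer_component hK'c)) ?_
    intro g hg
    rw [mem_normalizer_iff_map_conj_eq, Subgroup.map_sup]
    congr 1
    · exact map_conj_eq_of_mem_normalizer hg.1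
    · exact map_conj_eq_of_mem_normalizer hg.2
  have hWsn : W.IsSubnormal :=
    isSubnormal_of_le_normalizer hWL hLW (Normal.isSubnormal inferInstance)
  have hrW : φ.range ≤ W := by
    rintro _ ⟨d, rfl⟩
    exact mul_mem (mem_sup_left d.2) (mem_sup_right (htK _ d.2))
  have hnorm : ∀ n ∈ W, n ∈ C → n ∈ normalizer (φ.range : Set X) := by
    intro n hnW hnC
    obtain ⟨a, ha, b, hb, rfl⟩ := CfsgLib.GenFittingSub.exists_mul_of_mem_sup_of_commute
      (component_commutator_of_ne hK hK'c (Ne.symm hne)) hnW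
    set z := (t * a * t)⁻¹ * b with hz
    have hzeq : a * b = φ ⟨a, ha⟩ * z := by
      show a * b = a * (t * a * t) * z
      rw [hz]; group
    have hzK' : z ∈ K' := mul_mem (inv_mem (htK a ha)) hb
    have hzfix : t * z * t = z := by
      have : z ∈ C := by
        have := mul_mem (inv_mem (hφC ⟨a, ha⟩)) hnC
        rwa [hzeq, inv_mul_cancel_left] at this
      exact (hfix z).mp this
    have hzK : z ∈ K := hzfix ▸ htK' z hzK'
    refine mem_normalizer_fintype ?_
    rintro _ ⟨d, rfl⟩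
    have h1 : (φ d : X) * z = z * φ d := by
      show (d : X) * (t * d * t) * z = z * (d * (t * d * t))
      calc (d : X) * (t * d * t) * z = d * ((t * d * t) * z) := by group
        _ = d * (z * (t * d * t)) := by rw [hcomm z hzK _ (htK _ d.2)]
        _ = (d * z) * (t * d * t) := by group
        _ = (z * d) * (t * d * t) := by rw [hcomm _ d.2 _ hzK']
        _ = z * (d * (t * d * t)) := by group
    refine ⟨⟨a, ha⟩ * d * (⟨a, ha⟩ : ↥K)⁻¹, ?_⟩
    rw [map_mul, map_mul, map_inv, hzeq]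
    calc φ ⟨a, ha⟩ * φ d * (φ ⟨a, ha⟩)⁻¹ = φ ⟨a, ha⟩ * (φ d * z) * z⁻¹ * (φ ⟨a, ha⟩)⁻¹ := by group
      _ = φ ⟨a, ha⟩ * (z * φ d) * z⁻¹ * (φ ⟨a, ha⟩)⁻¹ := by rw [h1]
      _ = φ ⟨a, ha⟩ * z * φ d * (φ ⟨a, ha⟩ * z)⁻¹ := by group
  refine ⟨φ.range.subgroupOf C, ⟨?_, ?_⟩, ⟨⟨φ ⟨y, hy⟩, hφC _⟩, ⟨_, rfl⟩, rfl⟩⟩
  · refine isSubnormal_of_le_normalizer (K := W.subgroupOf C) (fun x hx => hrW hx) ?_ hWsn.subgroupOf
    intro n hn
    refine mem_normalizer_fintype fun x hx => ?_
    exact (mem_normalizer_iff.mp (hnorm (n : X) hn n.2) _).mp hx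
  · haveI : Nontrivial ↥φ.range := (nontrivial_iff_ne_bot _).mpr hφne
    exact (quasisimple_congr (subgroupOfEquivOfLe hrC)).mpr
      (quasisimple_of_surjective hK.2 φ.rangeRestrict_surjective)

/-- A 2-component of `C(t)` lies in a `t`-invariant 2-component or commutes with it modulo the core. -/
theorem cent_component {K : Subgroup X} (hK : Cfsg.IsPComponent 2 K) {t : X} (ht : orderOf t = 2)
    (htK : t ∈ normalizer (K : Set X)) {E : Subgroup ↥(centralizer ({t} : Set X))}
    (hE : Cfsg.IsPComponent 2 E) {w : ↥(centralizer ({t} : Set X))} (hwE : w ∈ E) (h2 : Is2 w) :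
    (w : X) ∈ K ∨ ∀ k ∈ K, ⁅(w : X), k⁆ ∈ Cfsg.pPrimeCore 2 X := by
  haveI : Fact (Nat.Prime 2) := ⟨Nat.prime_two⟩
  set O := Cfsg.pPrimeCore 2 X with hO
  set π := QuotientGroup.mk' O with hπ
  set W := K ⊔ O with hW
  have hWsn : W.IsSubnormal := by
    have h : (K.map π).comap π = W := by rw [comap_map_eq, QuotientGroup.ker_mk']
    rw [← h]
    exact (hK.2.1.1).comap π
  set N := W.subgroupOf (centralizer ({t} : Set X)) with hN
  set πC := QuotientGroup.mk' (Cfsg.pPrimeCore 2 ↥(centralizer ({t} : Set X)))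
  rcases component_le_or_commutator hE.2.1 ((hWsn.subgroupOf (K := (centralizer ({t} : Set X)))).map (QuotientGroup.mk'_surjective _))
    with h | h
  · left
    rw [Subgroup.map_le_iff_le_comap, comap_map_eq, QuotientGroup.ker_mk'] at h
    have hwW : (w : X) ∈ W := mem_of_sup_odd hWsn.subgroupOf inferInstance
      (coprime_card_pPrimeCore 2) (h hwE) h2
    exact mem_of_sup_odd hK.1 inferInstance (coprime_card_pPrimeCore 2) hwW
      (by obtain ⟨k, hk⟩ := h2; exact ⟨k, congrArg Subtype.val hk⟩)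
  right
  rw [← map_commutator, Subgroup.map_eq_bot_iff, QuotientGroup.ker_mk'] at h
  set Ob := ((Cfsg.pPrimeCore 2 ↥(centralizer ({t} : Set X))).map (centralizer ({t} : Set X)).subtype).map π with hOb
  have hObcop : (Nat.card Ob).Coprime 2 := by
    refine Nat.Coprime.coprime_dvd_left ((card_map_dvd _ _).trans (card_map_dvd _ _)) ?_
    exact coprime_card_pPrimeCore 2
  set Kb := K.map π with hKb
  have hKc : Cfsg.IsComponent Kb := hK.2.1
  set Cb := centralizer (Kb : Set (X ⧸ O)) with hCb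
  set Eb := (E.map (centralizer ({t} : Set X)).subtype).map π with hEb
  set Qb := N.map (centralizer ({t} : Set X)).subtype |>.map π with hQb
  have hEperf : ⁅Eb, Eb⁆ = Eb := by
    rw [hEb, ← map_commutator, ← map_commutator, pComponent_commutator_self hE]
  have hEL : Eb ≤ Cfsg.layer (X ⧸ O) := by
    rw [← pLayer_map_mk]
    refine map_mono ?_
    refine le_trans (map_mono (pComponent_le_pLayer hE)) ?_
    have hR : IsPGroup 2 ↥(zpowers t) := is2_zpowers (is2_of_invol ht)
    have hb := pLayer_centralizer_two_le hR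
    rwa [CfsgLib.Balance.centralizer_zpowers] at hb
  have hEQ : ⁅Eb, Qb⁆ ≤ Ob := by
    rw [hEb, hQb, ← map_commutator, ← map_commutator]
    exact map_mono (map_mono h)
  have hLdec : Cfsg.layer (X ⧸ O) ≤ Kb ⊔ Cb := sSup_le fun L hL => by
    rcases component_eq_or_commutator hL hKc with e | e
    · exact e.le.trans le_sup_left
    · exact (le_centralizer_of_commutator_eq_bot e).trans le_sup_right
  have hKN : Kb ≤ normalizer (Cb : Set (X ⧸ O)) :=
    le_normalizer.trans (normalizer_le_normalizer_cent Kb)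
  have hdec : ∀ g ∈ Eb, ∃ k ∈ Kb, ∃ c ∈ Cb, c * k = g := fun g hg => by
    have hg' := hLdec (hEL hg)
    rw [sup_comm] at hg'
    obtain ⟨c, hc, k, hk, he⟩ := (CfsgLib.Solvable.mem_sup_of_le_normalizer hKN).mp hg'
    exact ⟨k, hk, c, hc, he⟩
  set τ := π t with hτ
  have hττ : τ * τ = 1 := by rw [hτ, ← map_mul, invol_mul_self ht, map_one]
  have hτinv : τ⁻¹ = τ := inv_eq_of_mul_eq_one_right hττ
  have hτK : ∀ k ∈ Kb, τ * k * τ ∈ Kb := by
    rintro _ ⟨k, hk, rfl⟩
    rw [hτ, ← map_mul, ← map_mul]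
    refine ⟨t * k * t, ?_, rfl⟩
    have := (mem_normalizer_iff.mp htK k).mp hk
    rwa [invol_inv ht] at this
  have hτC : ∀ c ∈ Cb, τ * c * τ ∈ Cb := by
    intro c hc
    rw [mem_centralizer_iff]
    intro k hk
    have h1 := mem_centralizer_iff.mp hc _ (hτK k hk)
    calc k * (τ * c * τ) = (τ * τ) * k * (τ * c * τ) := by rw [hττ, one_mul]
      _ = τ * ((τ * k * τ) * c) * τ := by group
      _ = τ * (c * (τ * k * τ)) * τ := by rw [h1]
      _ = (τ * c * τ) * k * (τ * τ) := by group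
      _ = (τ * c * τ) * k := by rw [hττ, mul_one]
  have hτE : ∀ g ∈ Eb, τ * g * τ = g := by
    rintro _ ⟨g, ⟨e, -, rfl⟩, rfl⟩
    have h1 := mem_centralizer_singleton_iff.mp e.2
    rw [hτ, ← map_mul, ← map_mul]
    congr 1
    show t * (e : X) * t = e
    rw [← h1, mul_assoc, invol_mul_self ht, mul_one]
  -- a fixed element of the image of `K` comes from `K ⊔ O`
  have hQ : ∀ k ∈ Kb, τ * k * τ = k → k ∈ Qb := by
    intro k hk hfix
    have himg : centralizer ({τ} : Set (X ⧸ O)) = (centralizer ({t} : Set X)).map π := by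
      have h' := CfsgLib.PLoc.centralizer_map_eq (QuotientGroup.mk'_surjective O)
        (p := 2) (by rw [QuotientGroup.ker_mk']; exact coprime_card_pPrimeCore 2)
        (is2_zpowers (is2_of_invol ht))
      rw [MonoidHom.map_zpowers, CfsgLib.Balance.centralizer_zpowers,
        CfsgLib.Balance.centralizer_zpowers] at h'
      exact h'
    have hkc : k ∈ centralizer ({τ} : Set (X ⧸ O)) := by
      rw [mem_centralizer_singleton_iff]
      calc k * τ = (τ * k * τ) * τ := by rw [hfix]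
        _ = τ * k * (τ * τ) := by group
        _ = τ * k := by rw [hττ, mul_one]
    rw [himg] at hkc
    obtain ⟨c, hcC, rfl⟩ := hkc
    refine ⟨c, ⟨⟨c, hcC⟩, ?_, rfl⟩, rfl⟩
    show c ∈ W
    rw [hW, ← (QuotientGroup.ker_mk' O), ← comap_map_eq]
    exact hk
  -- commutators of the fixed elements
  have hpair : ∀ g ∈ Eb, ∀ g' ∈ Eb, ∃ q ∈ Qb, q ∈ Kb ∧ ∃ c ∈ Cb, c * q = ⁅g, g'⁆ := by
    intro g hg g' hg'
    obtain ⟨k, hk, c, hc, rfl⟩ := hdec g hg
    obtain ⟨k', hk', c', hc', rfl⟩ := hdec g' hg'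
    have hcz : ∀ k ∈ Kb, ∀ c ∈ Cb, τ * (c * k) * τ = c * k → k⁻¹ * (τ * k * τ) ∈ Cb := by
      intro k hk c hc he
      have hck : c * k = k * c := (mem_centralizer_iff.mp hc k hk).symm
      have : k⁻¹ * (τ * k * τ) = c * (τ * c * τ)⁻¹ := by
        have h2 : (τ * k * τ) * (τ * c * τ) = k * c := by
          calc (τ * k * τ) * (τ * c * τ) = τ * (k * (τ * τ) * c) * τ := by group
            _ = τ * (c * k) * τ := by rw [hττ, mul_one, hck]
            _ = k * c := by rw [he, hck]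
        calc k⁻¹ * (τ * k * τ) = k⁻¹ * ((τ * k * τ) * (τ * c * τ)) * (τ * c * τ)⁻¹ := by group
          _ = c * (τ * c * τ)⁻¹ := by rw [h2]; group
      rw [this]
      exact mul_mem hc (inv_mem (hτC c hc))
    obtain ⟨u, hu⟩ : ∃ u, u = k⁻¹ * (τ * k * τ) := ⟨_, rfl⟩
    obtain ⟨u', hu'⟩ : ∃ u', u' = k'⁻¹ * (τ * k' * τ) := ⟨_, rfl⟩
    have huC : u ∈ Cb := hu ▸ hcz k hk c hc (hτE _ hg)
    have huC' : u' ∈ Cb := hu' ▸ hcz k' hk' c' hc' (hτE _ hg')
    have huK : u ∈ Kb := hu ▸ mul_mem (inv_mem hk) (hτK k hk)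
    have huK' : u' ∈ Kb := hu' ▸ mul_mem (inv_mem hk') (hτK k' hk')
    have cen : ∀ u ∈ Cb, ∀ k ∈ Kb, Commute k u := fun u hu k hk => mem_centralizer_iff.mp hu k hk
    have hfix : τ * ⁅k, k'⁆ * τ = ⁅k, k'⁆ := by
      have f0 : τ * ⁅k, k'⁆ * τ = ⁅τ * k * τ, τ * k' * τ⁆ := by
        have hc : ∀ x, MulAut.conj τ x = τ * x * τ := fun x => by rw [MulAut.conj_apply, hτinv]
        rw [← hc, ← hc, ← hc, map_commutatorElement]
      rw [f0, show τ * k * τ = k * u by rw [hu, mul_inv_cancel_left],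
        show τ * k' * τ = k' * u' by rw [hu', mul_inv_cancel_left]]
      have m2 : Commute k' u := cen u huC k' hk'
      have m3 : Commute k u' := cen u' huC' k hk
      have m5 : Commute u u' := cen u' huC' u huK
      simp only [commutatorElement_def, mul_inv_rev]
      calc k * u * (k' * u') * (u⁻¹ * k⁻¹) * (u'⁻¹ * k'⁻¹)
          = k * (u * k') * (u' * u⁻¹) * (k⁻¹ * u'⁻¹) * k'⁻¹ := by group
        _ = k * (k' * u) * (u⁻¹ * u') * (u'⁻¹ * k⁻¹) * k'⁻¹ := by
          rw [← m2.eq, (m5.symm.inv_right).eq, m3.inv_inv.eq]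
        _ = k * k' * k⁻¹ * k'⁻¹ := by group
    have hkk : ⁅k, k'⁆ ∈ Kb := mul_mem (mul_mem (mul_mem hk hk') (inv_mem hk)) (inv_mem hk')
    refine ⟨_, hQ _ hkk hfix, hkk, ⁅c, c'⁆,
      mul_mem (mul_mem (mul_mem hc hc') (inv_mem hc)) (inv_mem hc'), ?_⟩
    have q1 : Commute k c := cen c hc k hk
    have q2 : Commute k c' := cen c' hc' k hk
    have q3 : Commute k' c := cen c hc k' hk'
    have q4 : Commute k' c' := cen c' hc' k' hk'
    simp only [commutatorElement_def, mul_inv_rev]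
    calc c * c' * c⁻¹ * c'⁻¹ * (k * k' * k⁻¹ * k'⁻¹)
        = c * c' * c⁻¹ * (c'⁻¹ * (k * k' * k⁻¹ * k'⁻¹)) := by group
      _ = c * c' * c⁻¹ * ((k * k' * k⁻¹ * k'⁻¹) * c'⁻¹) := by
        rw [((((q2.mul_left q4).mul_left q2.inv_left).mul_left q4.inv_left).inv_right).eq]
      _ = c * c' * (c⁻¹ * (k * k' * k⁻¹ * k'⁻¹)) * c'⁻¹ := by group
      _ = c * c' * ((k * k' * k⁻¹ * k'⁻¹) * c⁻¹) * c'⁻¹ := by
        rw [((((q1.mul_left q3).mul_left q1.inv_left).mul_left q3.inv_left).inv_right).eq]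
      _ = c * (c' * k) * k' * k⁻¹ * (k'⁻¹ * c⁻¹) * c'⁻¹ := by group
      _ = c * (k * c') * k' * k⁻¹ * (c⁻¹ * k'⁻¹) * c'⁻¹ := by rw [q2.eq, q3.inv_inv.eq]
      _ = c * k * (c' * k') * (k⁻¹ * c⁻¹) * (k'⁻¹ * c'⁻¹) := by group
  have hQK : Qb ≤ Kb := by
    rintro _ ⟨_, ⟨n, hn, rfl⟩, rfl⟩
    have hn' : (n : X) ∈ W := hn
    rw [hW, ← (QuotientGroup.ker_mk' O), ← comap_map_eq] at hn'
    exact hn'
  have hQdec : ∀ g ∈ Eb, ∃ c ∈ Cb, ∃ q ∈ Qb, c * q = g := by
    have h1 : Eb ≤ Cb ⊔ Qb := by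
      conv_lhs => rw [← hEperf]
      rw [commutator_le]
      intro g hg g' hg'
      obtain ⟨q, hq, -, c, hc, he⟩ := hpair g hg g' hg'
      rw [← he]
      exact mul_mem (mem_sup_left hc) (mem_sup_right hq)
    exact fun g hg => (CfsgLib.Solvable.mem_sup_of_le_normalizer (hQK.trans hKN)).mp (h1 hg)
  -- `Eb` lies in the product of an odd group and `Cb`
  set N' := normalizer (Kb : Set (X ⧸ O)) with hN'
  set O'' := Ob ⊓ N' with hO''
  have hCN : O'' ≤ normalizer (Cb : Set (X ⧸ O)) :=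
    inf_le_right.trans (normalizer_le_normalizer_cent Kb)
  have hEN : ∀ g ∈ Eb, g ∈ N' := fun g hg => layer_le_normalizer_component hKc (hEL hg)
  have hEle : Eb ≤ Cb ⊔ O'' := by
    conv_lhs => rw [← hEperf]
    rw [commutator_le]
    intro g hg g' hg'
    obtain ⟨c', hc', q', hq', rfl⟩ := hQdec g' hg'
    obtain ⟨c, hc, q, hq, hgq⟩ := hQdec g hg
    have h1 : ⁅g, q'⁆ ∈ Cb ⊔ O'' := mem_sup_right (Subgroup.mem_inf.mpr ⟨hEQ (commutator_mem_commutator hg hq'),
      mul_mem (mul_mem (mul_mem (hEN g hg) (le_normalizer (hQK hq'))) (inv_mem (hEN g hg)))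
        (inv_mem (le_normalizer (hQK hq')))⟩)
    have hgn : g ∈ normalizer (Cb : Set (X ⧸ O)) :=
      normalizer_le_normalizer_cent Kb (hEN g hg)
    have h2 : ⁅g, c'⁆ ∈ Cb :=
      mul_mem ((mem_normalizer_iff.mp hgn c').mp hc') (inv_mem hc')
    have e : ⁅g, c' * q'⁆ = ⁅g, c'⁆ * (c' * ⁅g, q'⁆ * c'⁻¹) := by
      simp only [commutatorElement_def, mul_inv_rev]; group
    rw [e]
    exact mul_mem (mem_sup_left h2) (mul_mem (mul_mem (mem_sup_left hc') h1) (inv_mem (mem_sup_left hc')))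
  -- the 2-element lies in `Cb`
  have hwE' : π (w : X) ∈ Eb := ⟨_, ⟨w, hwE, rfl⟩, rfl⟩
  have hwC : π (w : X) ∈ Cb := by
    obtain ⟨k, hk⟩ := h2
    set M := normalizer (Cb : Set (X ⧸ O)) with hM
    haveI : (Cb.subgroupOf M).Normal := (normal_subgroupOf_iff_le_normalizer le_normalizer).mpr le_rfl
    have hwM : π (w : X) ∈ M :=
      normalizer_le_normalizer_cent Kb (hEN _ hwE')
    obtain ⟨c, hc, o, ho, hco⟩ := (CfsgLib.Solvable.mem_sup_of_le_normalizer hCN).mp (hEle hwE')
    set ρ := QuotientGroup.mk' (Cb.subgroupOf M)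
    have hρ : ρ ⟨π (w : X), hwM⟩ = ρ ⟨o, hCN ho⟩ := by
      rw [QuotientGroup.mk'_eq_mk']
      refine ⟨(⟨π (w : X), hwM⟩ : ↥M)⁻¹ * ⟨o, hCN ho⟩, ?_, mul_inv_cancel_left _ _⟩
      show (π (w : X))⁻¹ * o ∈ Cb
      rw [← hco]
      rw [mul_inv_rev]
      have h' := (mem_normalizer_iff.mp (inv_mem (hCN ho)) c⁻¹).mp (inv_mem hc)
      rwa [inv_inv] at h'
    have h1 : ρ ⟨π (w : X), hwM⟩ ^ 2 ^ k = 1 := by
      rw [← map_pow]
      convert map_one ρ
      refine Subtype.ext ?_
      show π (w : X) ^ 2 ^ k = 1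
      rw [← map_pow, show (w : X) ^ 2 ^ k = 1 from congrArg Subtype.val hk, map_one]
    have h3 : (⟨o, hCN ho⟩ : ↥M) ^ Nat.card Ob = 1 := by
      have h5 : orderOf (⟨o, (Subgroup.mem_inf.mp ho).1⟩ : ↥Ob) ∣ Nat.card Ob := orderOf_dvd_natCard _
      rw [← orderOf_coe] at h5
      exact Subtype.ext (orderOf_dvd_iff_pow_eq_one.mp h5)
    have h4 : ρ ⟨π (w : X), hwM⟩ = 1 := eq_one_of_is2_coprime ⟨k, h1⟩ hObcop (by
      rw [hρ, ← map_pow, h3, map_one])
    exact (QuotientGroup.eq_one_iff (N := Cb.subgroupOf M) ⟨π (w : X), hwM⟩).mp h4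
  intro k hk
  rw [← QuotientGroup.ker_mk' O, MonoidHom.mem_ker, map_commutatorElement,
    commutatorElement_eq_one_iff_mul_comm]
  exact (mem_centralizer_iff.mp hwC (π k) ⟨k, hk, rfl⟩).symm

end

end CfsgLib.UniqInvol
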