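import Cfsg.Agent.Lib.Components.UniqueInvol.MoverFour

/-!
No 2-element of order at least four of `K` centralizing the involution of `J` moves `J`.
-/

set_option autoImplicit false
set_option linter.style.haveILetI false
set_option linter.unusedVariables false
set_option linter.unusedSectionVars false

namespace CfsgLib.UniqInvol

open Subgroup CfsgLib.Components
open scoped commutatorElement

universe u

variable {G : Type u} [Group G] [Finite G] {J K L L1 N : Subgroup G} {zJ zK y l l1 m : G}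

/-- A component on which `zJ` is inverting lies in the pair making up `zJ`. -/
theorem eq_or_eq_of_witness (hL : UI L zK) (hL1 : UI L1 zK) (hl : l ∈ L) (hl1 : l1 ∈ L1)
    (hll : l⁻¹ * l1 = zJ * zK) (hN : UI N zK) (hm : m ∈ N) (hmm : m * m = zK)
    (hinv : zJ * m * zJ = m⁻¹) (hJ2 : orderOf zJ = 2) : N = L ∨ N = L1 := by
  by_contra hne
  push Not at hne
  set π := QuotientGroup.mk' (Cfsg.pPrimeCore 2 ↥(centralizer ({zK} : Set G))) with hπ
  have hKK := invol_mul_self hN.ord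
  let zz : ↥(centralizer ({zK} : Set G)) := ⟨zK, hN.le hN.mem⟩
  let lL : ↥(centralizer ({zK} : Set G)) := ⟨l, hL.le hl⟩
  let lR : ↥(centralizer ({zK} : Set G)) := ⟨l1, hL1.le hl1⟩
  let mm : ↥(centralizer ({zK} : Set G)) := ⟨m, hN.le hm⟩
  let tt : ↥(centralizer ({zK} : Set G)) := lL⁻¹ * lR * zz
  have htt : (tt : G) = zJ := by
    show l⁻¹ * l1 * zK = zJ
    rw [hll, mul_assoc, hKK, mul_one]
  have c1 : Commute (π mm) (π lL) := hN.quot_comm hL hne.1 hm hl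
  have c2 : Commute (π mm) (π lR) := hN.quot_comm hL1 hne.2 hm hl1
  have c3 : Commute (π mm) (π zz) := by
    show π mm * π zz = π zz * π mm
    rw [← map_mul, ← map_mul]
    exact congrArg π (Subtype.ext (hN.comm_z hm))
  have c4 : Commute (π mm) (π tt) := by
    rw [map_mul, map_mul, map_inv]
    exact (c1.inv_right.mul_right c2).mul_right c3
  have h1 : π (tt * mm * tt) = π mm := by
    have h2 : π tt * π tt = 1 := by
      rw [← map_mul, show tt * tt = 1 from Subtype.ext (by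
        show (tt : G) * (tt : G) = 1
        rw [htt, invol_mul_self hJ2]), map_one]
    rw [map_mul, map_mul, mul_assoc, c4.eq, ← mul_assoc, h2, one_mul]
  rw [show tt * mm * tt = mm⁻¹ from Subtype.ext (by
    show (tt : G) * m * (tt : G) = m⁻¹
    rw [htt, hinv])] at h1
  have h3 : π zz = 1 := by
    rw [show zz = mm * mm from Subtype.ext hmm.symm, map_mul]
    nth_rw 1 [← h1]
    rw [map_inv, inv_mul_cancel]
  have h4 : zK ∈ core zK := (mem_core_iff (hN.le hN.mem)).mpr ((QuotientGroup.eq_one_iff _).mp h3)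
  have h5 := eq_one_of_is2_core (is2_of_invol hN.ord) h4
  have := hN.ord
  rw [h5, orderOf_one] at this
  omega

/-- An element moving one member of a two-element set moves the other. -/
theorem moves_other {w : G} {N0 : Subgroup G} (hN0 : N0 = L ∨ N0 = L1) (hN : N = L ∨ N = L1)
    (himg : cj w N0 = L ∨ cj w N0 = L1) (hmov : cj w N0 ≠ N0) : cj w N ≠ N := by
  intro hfix
  by_cases e : N = N0
  · exact hmov (e ▸ hfix)
  · have h : cj w N0 = N := by
      rcases hN0 with rfl | rfl <;> rcases hN with rfl | rfl <;> rcases himg with h | h <;>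
        first | exact h | exact absurd h hmov | exact absurd rfl e
    exact e (cj_inj (hfix.trans h.symm))

theorem Mover.false (M : Mover J K zJ zK y) : False := by
  haveI : Fact (Nat.Prime 2) := ⟨Nat.prime_two⟩
  obtain ⟨n, hn⟩ := M.hK.exists_sq_root M.mem M.two M.sq
  have cyJ : Commute y zJ := M.comm
  have cyK : Commute y zK := M.hK.comm_z M.mem
  have hJJ := invol_mul_self M.hJ.ord
  have hKK := invol_mul_self M.hK.ord
  have hzKinv := invol_inv M.hK.ord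
  have hzJinv := invol_inv M.hJ.ord
  set g := y ^ n with hg
  have hgK : g ∈ K := pow_mem M.mem n
  have cgJ : Commute g zJ := cyJ.pow_left n
  have hgJ : cj g J = J := no_mover_four M.hJ M.hK hgK hn cgJ.eq
  have hy4 : y * y * (y * y) ≠ 1 := by
    intro e
    by_cases h1 : y * y = zK
    · exact M.false_of_sq h1
    · apply M.sq
      obtain ⟨T, hT, hle⟩ := exists_syl (is2_zpowers M.two) (zpowers_le.mpr (M.hK.le M.mem))
      exact ((M.hK.qp hT).sq_cases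
        (mul_mem (Subgroup.mem_inf.mpr ⟨hle (mem_zpowers y), M.mem⟩)
          (Subgroup.mem_inf.mpr ⟨hle (mem_zpowers y), M.mem⟩)) e).resolve_right h1
  obtain ⟨T0, hT0, hle0⟩ := exists_syl (is2_zpowers M.two) (zpowers_le.mpr (Subgroup.mem_inf.mpr
    (⟨mem_centralizer_comm.mpr M.comm, mem_centralizer_comm.mpr cyK.eq⟩ :
      y ∈ centralizer ({zJ} : Set G) ∧ y ∈ centralizer ({zK} : Set G))))
  obtain ⟨T, hT, hle⟩ := exists_syl (C := centralizer ({zJ} : Set G)) hT0.pgrp (hT0.le.trans inf_le_left)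
  have hyT : y ∈ T := hle (hle0 (mem_zpowers y))
  have hgT : g ∈ T := pow_mem hyT n
  have hzKT : zK ∈ T := hn ▸ mul_mem hgT hgT
  have hzJT : zJ ∈ T := hT.z_mem M.hJ.ord
  obtain ⟨T', hT', hle'⟩ := exists_syl (C := centralizer ({zK} : Set G))
    (R := T ⊓ centralizer ({zK} : Set G)) (hT.pgrp.to_le inf_le_left) inf_le_right
  have hmemT' : ∀ a ∈ T, a * zK = zK * a → a ∈ T' := fun a ha hac =>
    hle' (Subgroup.mem_inf.mpr ⟨ha, mem_centralizer_comm.mpr hac⟩)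
  have hyT' : y ∈ T' := hmemT' y hyT cyK.eq
  have hgT' : g ∈ T' := pow_mem hyT' n
  have hzJT' : zJ ∈ T' := hmemT' zJ hzJT M.z_comm
  have hQP := M.hJ.qp hT
  have hQP' := M.hK.qp hT'
  -- an element of order four of `J` fixed by `zK`
  obtain ⟨x, hx, hxx, hxn⟩ := hQP.exists_normalized (T := T ⊓ normalizer (J : Set G))
    (hT.pgrp.to_le inf_le_left) (inf_le_inf_normalizer T J) (le_normalizer_inf T J)
  obtain ⟨hxT, hxJ⟩ := Subgroup.mem_inf.mp hx
  have hxK : x * zK = zK * x := by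
    have h1 : g * (g * x * g⁻¹) * g⁻¹ = x := by
      rcases hxn g (Subgroup.mem_inf.mpr ⟨hgT, mem_normalizer_iff_map_conj_eq.mpr hgJ⟩) with e | e
      · rw [e, e]
      · rw [e, show g * x⁻¹ * g⁻¹ = (g * x * g⁻¹)⁻¹ by group, e, inv_inv]
    rw [show g * (g * x * g⁻¹) * g⁻¹ = (g * g) * x * (g * g)⁻¹ by group, hn, conj_eq_self_iff] at h1
    exact h1.symm
  have hcjxK : cj x K = K := no_mover_four M.hK M.hJ hxJ hxx hxK
  set X := y⁻¹ * x * y with hX
  have hXT : X ∈ T := mul_mem (mul_mem (inv_mem hyT) hxT) hyT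
  have hXJ1 : X ∈ cj y⁻¹ J := inv_conj_mem hxJ
  have hcxX : Commute x X := M.hJ.comm M.hJ1 M.ne1.symm hT.pgrp hxJ hXJ1 hxT hXT
  have hXX : X * X = zJ := by
    rw [hX, show y⁻¹ * x * y * (y⁻¹ * x * y) = y⁻¹ * (x * x) * y by group, hxx, mul_assoc,
      ← M.comm, inv_mul_cancel_left]
  have hgK2 : x⁻¹ * X ∈ K := by
    rw [hX, show x⁻¹ * (y⁻¹ * x * y) = (x⁻¹ * y⁻¹ * x) * y by group]
    exact mul_mem (conj_mem_of_cj_eq' hcjxK (inv_mem M.mem)) M.mem
  have hzK : zK = x⁻¹ * X := by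
    refine (M.hK.uniq _ hgK2 (orderOf_eq_prime (p := 2) ?_ ?_)).symm
    · rw [_root_.sq, hcxX.symm.inv_right.mul_mul_mul_comm, ← mul_inv_rev, hxx, hXX, inv_mul_cancel]
    · intro h1
      have hxJ1 : x ∈ cj y⁻¹ J := by rw [inv_mul_eq_one.mp h1]; exact hXJ1
      exact hQP.sq_ne_one hxx (M.hJ.inter_sq M.hJ1 M.ne1.symm hxJ hxJ1 (is2_of_sq M.hJ.ord hxx))
  -- an element inverting `x`
  obtain ⟨j, hj, hjj, hjx⟩ := hQP.exists_inverter hx hxx
  obtain ⟨hjT, hjJ⟩ := Subgroup.mem_inf.mp hj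
  have cjz : Commute j zJ := M.hJ.comm_z hjJ
  have hjz : j * zK * j⁻¹ = zJ * zK := by
    have hc : Commute j X := M.hJ.comm M.hJ1 M.ne1.symm hT.pgrp hjJ hXJ1 hjT hXT
    rw [hzK, show j * (x⁻¹ * X) * j⁻¹ = (j * x * j⁻¹)⁻¹ * (j * X * j⁻¹) by group, hjx,
      conj_eq_self_iff.mpr hc.eq, inv_inv]
    calc x * X = x * x * (x⁻¹ * X) := by group
      _ = zJ * (x⁻¹ * X) := by rw [hxx]
  have hjinv : zK * j * zK = j⁻¹ := by
    have h1 : zJ = j * zK * j⁻¹ * zK := by rw [hjz, mul_assoc, hKK, mul_one]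
    have h2 : j * zJ = j⁻¹ := (inv_eq_mul_of_sq M.hJ.ord hjj).symm
    calc zK * j * zK = zK * (j * zK * j⁻¹) * j := by group
      _ = zK * (zJ * zK) * j := by rw [hjz]
      _ = zJ * j := by rw [M.z_comm, ← mul_assoc, hKK, one_mul]
      _ = j⁻¹ := by rw [← cjz.eq, h2]
  -- an element of `K` inverted by `zJ`
  obtain ⟨k, hkK, hkk, hkinv⟩ : ∃ k ∈ K, k * k = zK ∧ zJ * k * zJ = k⁻¹ := by
    by_contra hno
    push Not at hno
    have hgP : g ∈ T' ⊓ K := Subgroup.mem_inf.mpr ⟨hgT', hgK⟩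
    obtain ⟨q, hq, hqq, hqg⟩ := hQP'.exists_inverter hgP hn
    have htn : ∀ p ∈ T' ⊓ K, zJ * p * zJ⁻¹ ∈ T' ⊓ K := fun p hp => Subgroup.mem_inf.mpr
      ⟨mul_mem (mul_mem hzJT' (Subgroup.mem_inf.mp hp).1) (inv_mem hzJT'),
        conj_mem_of_cj_eq M.cjK (Subgroup.mem_inf.mp hp).2⟩
    have ht2 : ∀ p ∈ T' ⊓ K, zJ * (zJ * p * zJ⁻¹) * zJ⁻¹ = p := fun p _ => by
      rw [hzJinv, show zJ * (zJ * p * zJ) * zJ = (zJ * zJ) * p * (zJ * zJ) by group, hJJ, one_mul, mul_one]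
    have hnone : ∀ p ∈ T' ⊓ K, p * p = zK → zJ * p * zJ⁻¹ ≠ p⁻¹ := fun p hp hpp => by
      rw [hzJinv]; exact hno p (Subgroup.mem_inf.mp hp).2 hpp
    have hgfix : zJ * g * zJ⁻¹ = g := conj_eq_self_iff.mpr cgJ.symm.eq
    have hqy : q * y * g * (q * y)⁻¹ = g⁻¹ := by
      rw [show q * y * g * (q * y)⁻¹ = q * (y * g * y⁻¹) * q⁻¹ by group,
        conj_eq_self_iff.mpr ((Commute.refl y).pow_right n).eq, hqg]
    have hqyP : q * y ∈ T' ⊓ K := mul_mem hq (Subgroup.mem_inf.mpr ⟨hyT', M.mem⟩)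
    have hf1 := hQP'.fixed_inverter htn ht2 hnone hgP hn hgfix hq hqg
    have hf2 := hQP'.fixed_inverter htn ht2 hnone hgP hn hgfix hqyP hqy
    have h1 := no_mover_four M.hJ M.hK (Subgroup.mem_inf.mp hq).2 hqq (conj_eq_self_iff.mp hf1).symm
    have h2 := no_mover_four M.hJ M.hK (Subgroup.mem_inf.mp hqyP).2
      (hQP'.inverter_sq hgP hqyP hn hqy) (conj_eq_self_iff.mp hf2).symm
    apply M.moves
    rw [cj_mul] at h2
    exact cj_inj (h2.trans h1.symm)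
  have hkz : k * zJ * k⁻¹ = zK * zJ := conj_of_inverted M.hJ.ord hkk hkinv
  have ckK : Commute k zK := M.hK.comm_z hkK
  set g0 := j * k with hg0
  have hgz : g0 * zJ * g0⁻¹ = zK := by
    calc g0 * zJ * g0⁻¹ = j * (k * zJ * k⁻¹) * j⁻¹ := by rw [hg0]; group
      _ = (j * zK * j⁻¹) * (j * zJ * j⁻¹) := by rw [hkz]; group
      _ = zK := by
        rw [hjz, conj_eq_self_iff.mpr cjz.eq, mul_assoc, ← M.z_comm, ← mul_assoc, hJJ, one_mul]
  have hgk : g0 * zK * g0⁻¹ = zJ * zK := by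
    calc g0 * zK * g0⁻¹ = j * (k * zK * k⁻¹) * j⁻¹ := by rw [hg0]; group
      _ = zJ * zK := by rw [conj_eq_self_iff.mpr ckK.eq, hjz]
  set L := cj g0 J with hLdef
  set L1 := cj g0 (cj y⁻¹ J) with hL1def
  have hL : UI L zK := hgz ▸ M.hJ.conj g0
  have hL1 : UI L1 zK := hgz ▸ M.hJ1.conj g0
  have hl : g0 * x * g0⁻¹ ∈ L := ⟨x, hxJ, rfl⟩
  have hl1 : g0 * X * g0⁻¹ ∈ L1 := ⟨X, hXJ1, rfl⟩
  have hll : (g0 * x * g0⁻¹)⁻¹ * (g0 * X * g0⁻¹) = zJ * zK := by
    rw [show (g0 * x * g0⁻¹)⁻¹ * (g0 * X * g0⁻¹) = g0 * (x⁻¹ * X) * g0⁻¹ by group, ← hzK, hgk]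
  have hS : ∀ (N : Subgroup G), UI N zK → ∀ m ∈ N, m * m = zK → zJ * m * zJ = m⁻¹ → N = L ∨ N = L1 :=
    fun N hN m hm hmm hinv => eq_or_eq_of_witness hL hL1 hl hl1 hll hN hm hmm hinv M.hJ.ord
  have hKS : K = L ∨ K = L1 := hS K M.hK k hkK hkk hkinv
  -- an element of `J` or of its image moving a member of the pair
  set y2 := g0⁻¹ * y * g0 with hy2
  have hy2mem : y2 ∈ J ∨ y2 ∈ cj y⁻¹ J := by
    rcases hKS with e | e
    · left
      have h : y ∈ L := by rw [← e]; exact M.mem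
      exact cj_mem.mp h
    · right
      have h : y ∈ L1 := by rw [← e]; exact M.mem
      exact cj_mem.mp h
  have hy2J : Commute y2 zJ := by
    rcases hy2mem with h | h
    · exact M.hJ.comm_z h
    · exact M.hJ1.comm_z h
  have hy2f : Commute y2 (zJ * zK) := by
    have e : g0⁻¹ * zJ * g0⁻¹⁻¹ = zJ * zK := by
      rw [inv_inv]
      have h : g0 * (zJ * zK) * g0⁻¹ = zJ := by
        rw [show g0 * (zJ * zK) * g0⁻¹ = (g0 * zJ * g0⁻¹) * (g0 * zK * g0⁻¹) by group, hgz, hgk,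
          M.z_comm, ← mul_assoc, hKK, one_mul]
      nth_rw 1 [← h]
      group
    have h := conj_comm_of_comm (g := g0⁻¹) cyJ.eq
    rw [e, inv_inv, ← hy2] at h
    exact h
  have hy2K : Commute y2 zK := by
    have := hy2J.mul_right hy2f
    rwa [← mul_assoc, hJJ, one_mul] at this
  set h := j * g0⁻¹ with hh
  set w := j * y2 * j⁻¹ with hw
  have hhz : h * zJ * h⁻¹ = zK := by
    have e : g0⁻¹ * zJ * g0 = zJ * zK := by
      have h0 : g0 * (zJ * zK) * g0⁻¹ = zJ := by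
        rw [show g0 * (zJ * zK) * g0⁻¹ = (g0 * zJ * g0⁻¹) * (g0 * zK * g0⁻¹) by group, hgz, hgk,
          M.z_comm, ← mul_assoc, hKK, one_mul]
      nth_rw 1 [← h0]
      group
    rw [hh, show j * g0⁻¹ * zJ * (j * g0⁻¹)⁻¹ = j * (g0⁻¹ * zJ * g0) * j⁻¹ by group, e,
      show j * (zJ * zK) * j⁻¹ = (j * zJ * j⁻¹) * (j * zK * j⁻¹) by group, hjz,
      conj_eq_self_iff.mpr cjz.eq, ← mul_assoc, hJJ, one_mul]
  have hhk : h * zK * h⁻¹ = zJ := by
    have e : g0⁻¹ * zK * g0 = zJ := by rw [← hgz]; group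
    rw [hh, show j * g0⁻¹ * zK * (j * g0⁻¹)⁻¹ = j * (g0⁻¹ * zK * g0) * j⁻¹ by group, e,
      conj_eq_self_iff.mpr cjz.eq]
  have hN0 : UI (cj h J) zK := hhz ▸ M.hJ.conj h
  have hm0 : h * j * h⁻¹ ∈ cj h J := ⟨j, hjJ, rfl⟩
  have hm0sq : h * j * h⁻¹ * (h * j * h⁻¹) = zK := by rw [sq_conj hjj, hhz]
  have hm0inv : zJ * (h * j * h⁻¹) * zJ = (h * j * h⁻¹)⁻¹ := by
    rw [← hhk, show h * zK * h⁻¹ * (h * j * h⁻¹) * (h * zK * h⁻¹) = h * (zK * j * zK) * h⁻¹ by group,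
      hjinv]
    group
  have hN0S := hS _ hN0 _ hm0 hm0sq hm0inv
  have hwJ : Commute w zJ := by
    have e := conj_comm_of_comm (g := j) hy2J.eq
    rwa [conj_eq_self_iff.mpr cjz.eq] at e
  have hwK : Commute w zK := by
    have e := conj_comm_of_comm (g := j) hy2f.eq
    rwa [show j * (zJ * zK) * j⁻¹ = (j * zJ * j⁻¹) * (j * zK * j⁻¹) by group, hjz,
      conj_eq_self_iff.mpr cjz.eq, ← mul_assoc zJ zJ zK, hJJ, one_mul] at e
  have hwmov0 : cj w (cj h J) ≠ cj h J := by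
    rw [← cj_mul, hw, hh, show j * y2 * j⁻¹ * (j * g0⁻¹) = j * g0⁻¹ * y by rw [hy2]; group, cj_mul]
    exact fun e => M.moves (cj_inj e)
  -- members of the pair go to members of the pair
  have himg : ∀ (N : Subgroup G) (m a : G), UI N zK → m ∈ N → m * m = zK → zJ * m * zJ = m⁻¹ →
      Commute a zJ → Commute a zK → cj a N = L ∨ cj a N = L1 := by
    intro N m a hN hm hmm hinv haJ haK
    refine hS _ (hN.conj_of_comm haK.eq) (a * m * a⁻¹) ⟨m, hm, rfl⟩ ?_ ?_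
    · rw [sq_conj hmm, conj_eq_self_iff.mpr haK.eq]
    · calc zJ * (a * m * a⁻¹) * zJ = (zJ * a) * m * (a⁻¹ * zJ) := by group
        _ = (a * zJ) * m * (zJ * a⁻¹) := by rw [haJ.eq, haJ.inv_left.eq]
        _ = a * (zJ * m * zJ) * a⁻¹ := by group
        _ = (a * m * a⁻¹)⁻¹ := by rw [hinv]; group
  have hwmov : cj w K ≠ K :=
    moves_other hN0S hKS (himg _ _ w hN0 hm0 hm0sq hm0inv hwJ hwK) hwmov0
  have hcjjy : cj j (cj y⁻¹ J) = cj y⁻¹ J := M.hJ1.cj_of_mem M.hJ hjJ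
  -- move it into `J`
  obtain ⟨w1, hw1J, hw1z, hw1K, hw1mov, hw1sq, hw1two⟩ : ∃ w1 ∈ J, Commute w1 zJ ∧ Commute w1 zK ∧
      cj w1 K ≠ K ∧ w1 * w1 * (w1 * w1) ≠ 1 ∧ Is2 w1 := by
    have hconj : ∀ a b : G, b * a * b⁻¹ * (b * a * b⁻¹) * (b * a * b⁻¹ * (b * a * b⁻¹)) ≠ 1 ↔
        a * a * (a * a) ≠ 1 := fun a b => by
      rw [not_iff_not, show b * a * b⁻¹ * (b * a * b⁻¹) * (b * a * b⁻¹ * (b * a * b⁻¹)) =
        b * (a * a * (a * a)) * b⁻¹ by group]
      constructor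
      · intro e
        rwa [mul_inv_eq_one, mul_eq_left] at e
      · intro e; rw [e]; group
    have hy2sq : y2 * y2 * (y2 * y2) ≠ 1 := by
      have := (hconj y g0⁻¹).mpr hy4
      rwa [inv_inv, ← hy2] at this
    have hwsq : w * w * (w * w) ≠ 1 := by rw [hw]; exact (hconj y2 j).mpr hy2sq
    have hwtwo : Is2 w := by
      obtain ⟨i, hi⟩ := M.two
      refine ⟨i, ?_⟩
      rw [hw, conj_pow, hy2, show g0⁻¹ * y * g0 = g0⁻¹ * y * g0⁻¹⁻¹ by rw [inv_inv], conj_pow, hi]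
      group
    rcases hy2mem with e | e
    · exact ⟨w, mul_mem (mul_mem hjJ e) (inv_mem hjJ), hwJ, hwK, hwmov, hwsq, hwtwo⟩
    · refine ⟨y * w * y⁻¹, ?_, (cyJ.mul_left hwJ).mul_left cyJ.inv_left,
        (cyK.mul_left hwK).mul_left cyK.inv_left, ?_, (hconj w y).mpr hwsq, ?_⟩
      · have : w ∈ cj y⁻¹ J := conj_mem_of_cj_eq hcjjy e
        rw [cj_mem, inv_inv] at this
        exact this
      · intro e1
        have hyKeq : cj y K = K := cj_eq_of_mem M.mem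
        rw [cj_mul, cj_mul, cj_inv hyKeq] at e1
        exact hwmov (cj_inj (e1.trans hyKeq.symm))
      · obtain ⟨i, hi⟩ := hwtwo
        exact ⟨i, by rw [conj_pow, hi]; group⟩
  -- move it next to `y`
  have hsn : ((J ⊓ centralizer ({zK} : Set G)).subgroupOf
      (centralizer ({zJ} : Set G) ⊓ centralizer ({zK} : Set G))).IsSubnormal := by
    have e : (J ⊓ centralizer ({zK} : Set G)).subgroupOf
        (centralizer ({zJ} : Set G) ⊓ centralizer ({zK} : Set G)) =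
        (J.subgroupOf (centralizer ({zJ} : Set G))).comap
          (inclusion (inf_le_left : centralizer ({zJ} : Set G) ⊓ centralizer ({zK} : Set G) ≤ _)) := by
      ext a
      exact ⟨fun h => h.1, fun h => ⟨h, a.2.2⟩⟩
    rw [e]
    exact M.hJ.comp.1.comap _
  obtain ⟨c, hc, hcT⟩ := hT0.conj_mem hsn (inf_le_inf_right _ M.hJ.le)
    (Subgroup.mem_inf.mpr ⟨hw1J, mem_centralizer_comm.mpr hw1K.eq⟩) hw1two
  obtain ⟨hcJ, hcK⟩ := Subgroup.mem_inf.mp hc
  have ccJ : Commute c zJ := M.hJ.comm_z hcJ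
  have ccK : Commute c zK := mem_centralizer_comm.mp hcK
  set v := c * w1 * c⁻¹ with hv
  have hvJ : v ∈ J := mul_mem (mul_mem hcJ hw1J) (inv_mem hcJ)
  have hvT : v ∈ T := hle hcT
  have hvzJ : Commute v zJ := (ccJ.mul_left hw1z).mul_left ccJ.inv_left
  have hvzK : Commute v zK := (ccK.mul_left hw1K).mul_left ccK.inv_left
  have hvmov : cj v K ≠ K := by
    have hcK' := himg K k c M.hK hkK hkk hkinv ccJ ccK
    have hmov' : cj v (cj c K) ≠ cj c K := by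
      rw [← cj_mul, hv, show c * w1 * c⁻¹ * c = c * w1 by group, cj_mul]
      exact fun e => hw1mov (cj_inj e)
    refine moves_other hcK' hKS ?_ hmov'
    refine himg _ (c * k * c⁻¹) v (M.hK.conj_of_comm ccK.eq) ⟨k, hkK, rfl⟩ ?_ ?_ hvzJ hvzK
    · rw [sq_conj hkk, conj_eq_self_iff.mpr ccK.eq]
    · calc zJ * (c * k * c⁻¹) * zJ = (zJ * c) * k * (c⁻¹ * zJ) := by group
        _ = (c * zJ) * k * (zJ * c⁻¹) := by rw [ccJ.eq, ccJ.inv_left.eq]
        _ = c * (zJ * k * zJ) * c⁻¹ := by group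
        _ = (c * k * c⁻¹)⁻¹ := by rw [hkinv]; group
  -- two such elements cannot exist
  set v1 := y⁻¹ * v * y with hv1
  have hv1J : v1 ∈ cj y⁻¹ J := inv_conj_mem hvJ
  have hv1T : v1 ∈ T := mul_mem (mul_mem (inv_mem hyT) hvT) hyT
  have hcvv : Commute v v1 := M.hJ.comm M.hJ1 M.ne1.symm hT.pgrp hvJ hv1J hvT hv1T
  have hvT' : v ∈ T' := hmemT' v hvT hvzK.eq
  have hUv : UI (cj v⁻¹ K) zK := M.hK.conj_of_comm hvzK.inv_left.eq
  have hcyv : Commute y (v⁻¹ * y * v) :=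
    M.hK.comm hUv (fun e => hvmov (by simpa using cj_inv e.symm)) hT'.pgrp M.mem (inv_conj_mem M.mem)
      hyT' (mul_mem (mul_mem (inv_mem hvT') hyT') hvT')
  set v2 := y⁻¹ * v1 * y with hv2
  have hv2eq : v2⁻¹ * v1 = v1⁻¹ * v := by
    have e1 : y⁻¹ * (v⁻¹ * y * v) = v1⁻¹ * v := by rw [hv1]; group
    have e2 : Commute y (v1⁻¹ * v) := by rw [← e1]; exact (Commute.refl y).inv_right.mul_right hcyv
    calc v2⁻¹ * v1 = y⁻¹ * (v1⁻¹ * v) * y := by rw [hv2, hv1]; group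
      _ = v1⁻¹ * v := by rw [mul_assoc, ← e2.eq, inv_mul_cancel_left]
  have hsq : v1 * v1 = v2 * v := by
    calc v1 * v1 = v2 * (v2⁻¹ * v1) * v1 := by group
      _ = v2 * (v1⁻¹ * (v * v1)) := by rw [hv2eq]; group
      _ = v2 * v := by rw [hcvv.eq, inv_mul_cancel_left]
  have hv2J : v2 ∈ cj y⁻¹ (cj y⁻¹ J) := inv_conj_mem hv1J
  have hne2 : cj y⁻¹ J ≠ cj y⁻¹ (cj y⁻¹ J) := fun e => M.ne1 (cj_inj e.symm)
  have hJ2 : UI (cj y⁻¹ (cj y⁻¹ J)) zJ := M.hJ1.conj_of_comm cyJ.inv_left.eq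
  have hQ1 := M.hJ1.qp hT
  have hv1P : v1 * v1 ∈ T ⊓ cj y⁻¹ J :=
    Subgroup.mem_inf.mpr ⟨mul_mem hv1T hv1T, mul_mem hv1J hv1J⟩
  have hcen := hQ1.central hv1P fun q hq => by
    obtain ⟨hqT, hqJ⟩ := Subgroup.mem_inf.mp hq
    have d1 : Commute q v2 := M.hJ1.comm hJ2 hne2 hT.pgrp hqJ hv2J hqT
      (mul_mem (mul_mem (inv_mem hyT) hv1T) hyT)
    have d2 : Commute q v := M.hJ1.comm M.hJ M.ne1 hT.pgrp hqJ hvJ hqT hvT
    rw [hsq]
    exact (d1.mul_right d2).symm.eq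
  apply hw1sq
  have e : w1 * w1 * (w1 * w1) = c⁻¹ * (y * (v1 * v1 * (v1 * v1)) * y⁻¹) * c := by
    rw [hv1, hv]; group
  rw [e, hcen]
  group

/-- No 2-element of order at least four of `K` centralizing `zJ` moves `J`. -/
theorem cj_eq_of_two_element (hJ : UI J zJ) (hK : UI K zK) (hy : y ∈ K) (h2 : Is2 y)
    (h4 : y * y ≠ 1) (hc : y * zJ = zJ * y) : cj y J = J := by
  by_contra h
  exact (Mover.mk hJ hK hy h2 h4 hc h).false

end CfsgLib.UniqInvol
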