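import Cfsg.Agent.Lib.Components.UniqueInvol.Mutual

/-!
No element of order four of `K` centralizing the involution of `J` moves `J`.
-/

set_option autoImplicit false
set_option linter.style.haveILetI false
set_option linter.unusedVariables false
set_option linter.unusedSectionVars false

namespace CfsgLib.UniqInvol

open Subgroup CfsgLib.Components
open scoped commutatorElement

universe u

variable {G : Type u} [Group G] [Finite G]

/-- `y` is a 2-element of `K` of order at least four centralizing `zJ` and moving `J`. -/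
structure Mover (J K : Subgroup G) (zJ zK y : G) : Prop where
  hJ : UI J zJ
  hK : UI K zK
  mem : y ∈ K
  two : Is2 y
  sq : y * y ≠ 1
  comm : y * zJ = zJ * y
  moves : cj y J ≠ J

theorem inv_conj_mem {H : Subgroup G} {g x : G} (hx : x ∈ H) : g⁻¹ * x * g ∈ cj g⁻¹ H :=
  ⟨x, hx, by show g⁻¹ * x * g⁻¹⁻¹ = _; rw [inv_inv]⟩

variable {J J1 K : Subgroup G} {zJ zK y z : G}

/-- Elements of distinct components commute modulo the core. -/
theorem UI.quot_comm (h : UI J z) (h1 : UI J1 z) (hne : J ≠ J1) {a b : G} (ha : a ∈ J) (hb : b ∈ J1) :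
    Commute (QuotientGroup.mk' (Cfsg.pPrimeCore 2 ↥(centralizer ({z} : Set G))) ⟨a, h.le ha⟩)
      (QuotientGroup.mk' (Cfsg.pPrimeCore 2 ↥(centralizer ({z} : Set G))) ⟨b, h1.le hb⟩) := by
  haveI : Fact (Nat.Prime 2) := ⟨Nat.prime_two⟩
  have h' := (pComponent_commutator_le h.comp h1.comp (h.pcomp_ne h1 hne)).trans inf_le_right
    (commutator_mem_commutator (g₁ := ⟨a, h.le ha⟩) (g₂ := ⟨b, h1.le hb⟩) ha hb)
  refine commutatorElement_eq_one_iff_mul_comm.mp ?_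
  rw [← map_commutatorElement]
  exact (QuotientGroup.eq_one_iff _).mpr h'

namespace Mover

variable (M : Mover J K zJ zK y)
include M

theorem z_ne : zJ ≠ zK := fun e => M.moves (M.hJ.cj_of_mem (e ▸ M.hK) M.mem)

theorem z_comm : zJ * zK = zK * zJ := by
  obtain ⟨n, hn⟩ := M.hK.exists_sq_root M.mem M.two M.sq
  rw [← hn]
  have h : Commute y zJ := M.comm
  exact ((h.pow_left n).mul_left (h.pow_left n)).symm.eq

theorem cjK : cj zJ K = K := M.hK.cj_eq_of_fixed M.z_comm M.mem M.two M.sq M.comm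

theorem cjJ : cj zK J = J := cj_eq_of_cj_eq M.hJ M.hK M.cjK

theorem hJ1 : UI (cj y⁻¹ J) zJ := M.hJ.conj_of_comm (show Commute y⁻¹ zJ from Commute.inv_left M.comm)

theorem ne1 : cj y⁻¹ J ≠ J := fun e => M.moves (by simpa using cj_inv e)

/-- An involution which turns `y` into `y * zJ` modulo the core moves `K`. -/
theorem moves_of_rel (hyy : y * y = zK) {t : G} (ht : orderOf t = 2) (htJ : t * zJ = zJ * t)
    (htK : t * zK = zK * t) (hrel : zJ * (y⁻¹ * (t * y * t)) ∈ core zJ) :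
    cj t K ≠ K ∧ (y * (t * y * t)) ^ Nat.card (core zJ) = zK * zJ := by
  set o := zJ * (y⁻¹ * (t * y * t)) with ho
  have cyJ : Commute y zJ := M.comm
  have cyK : Commute y zK := M.hK.comm_z M.mem
  have ctJ : Commute t zJ := htJ
  have ctK : Commute t zK := htK
  have hgJ : Commute (y⁻¹ * (t * y * t)) zJ :=
    cyJ.inv_left.mul_left ((ctJ.mul_left cyJ).mul_left ctJ)
  have hgK : Commute (y⁻¹ * (t * y * t)) zK :=
    cyK.inv_left.mul_left ((ctK.mul_left cyK).mul_left ctK)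
  have hoJ : Commute o zJ := (Commute.refl zJ).mul_left hgJ
  have hoK : Commute o zK := (show Commute zJ zK from M.z_comm).mul_left hgK
  have hg : y⁻¹ * (t * y * t) = zJ * o := by
    rw [ho, ← mul_assoc zJ zJ, invol_mul_self M.hJ.ord, one_mul]
  have hf : orderOf (zK * zJ) = 2 := by
    refine orderOf_eq_prime (p := 2) ?_ fun e => M.z_ne ?_
    · rw [_root_.sq, mul_assoc, ← mul_assoc zJ, M.z_comm, mul_assoc, invol_mul_self M.hJ.ord, mul_one,
        invol_mul_self M.hK.ord]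
    · rw [eq_inv_of_mul_eq_one_right e, invol_inv M.hK.ord]
  have hf' : y * (t * y * t) = zK * zJ * o := by
    calc y * (t * y * t) = y * y * (y⁻¹ * (t * y * t)) := by group
      _ = zK * zJ * o := by rw [hyy, hg, ← mul_assoc]
  refine ⟨fun e => ?_, ?_⟩
  · have hgKmem : y⁻¹ * (t * y * t) ∈ K := by
      refine mul_mem (inv_mem M.mem) ?_
      have := conj_mem_of_cj_eq e M.mem
      rwa [invol_inv ht] at this
    have := pow_core M.hJ.ord hrel hoJ.symm.eq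
    rw [← hg] at this
    exact M.z_ne (M.hK.uniq zJ (this ▸ pow_mem hgKmem _) M.hJ.ord)
  · rw [hf']
    exact pow_core hf hrel ((hoK.symm.mul_left hoJ.symm)).eq

/-- The involution of `K` cannot be a product of elements of order four of `J` and its image. -/
theorem false_of_pair (hyy : y * y = zK) {T : Subgroup G}
    (hT : Syl (centralizer ({zJ} : Set G)) T) (hyT : y ∈ T) {x : G} (hx : x ∈ T ⊓ J)
    (hxx : x * x = zJ) (hxK : x * zK = zK * x)
    (hF : zK = x⁻¹ * (y⁻¹ * x * y) ∨ zK = x⁻¹ * (y⁻¹ * x * y) * zJ) : False := by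
  haveI : Fact (Nat.Prime 2) := ⟨Nat.prime_two⟩
  obtain ⟨hxT, hxJ⟩ := Subgroup.mem_inf.mp hx
  obtain ⟨j, hj, hjj, hjx⟩ := (M.hJ.qp hT).exists_inverter hx hxx
  obtain ⟨hjT, hjJ⟩ := Subgroup.mem_inf.mp hj
  obtain ⟨c0, hc0J, hc0⟩ := M.hJ.exists_conj_four hT hx hxx hj hjj
  set x1 := y⁻¹ * x * y with hx1
  have hx1T : x1 ∈ T := mul_mem (mul_mem (inv_mem hyT) hxT) hyT
  have hjx1 : j * x1 = x1 * j :=
    M.hJ.comm M.hJ1 M.ne1.symm hT.pgrp hjJ (inv_conj_mem hxJ) hjT hx1T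
  have hzKinv := invol_inv M.hK.ord
  have cjz : Commute j zJ := M.hJ.comm_z hjJ
  have hjK : zK * j * zK = j * zJ := by
    have h1 : x⁻¹ * j * x = j * zJ := by
      calc x⁻¹ * j * x = x⁻¹ * (j * x * j⁻¹) * j := by group
        _ = (x * x)⁻¹ * j := by rw [hjx]; group
        _ = j * zJ := by rw [hxx, invol_inv M.hJ.ord, cjz.symm.eq]
    have h2 : x1⁻¹ * j * x1 = j := by rw [mul_assoc, hjx1, inv_mul_cancel_left]
    have hz : ∀ g : G, g ∈ centralizer ({zJ} : Set G) → Commute g zJ :=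
      fun g hg => mem_centralizer_comm.mp hg
    have hxJ1 : Commute x1 zJ := hz _ (M.hJ1.le (inv_conj_mem hxJ))
    have hcx : x * x1 = x1 * x := M.hJ.comm M.hJ1 M.ne1.symm hT.pgrp hxJ (inv_conj_mem hxJ) hxT hx1T
    have e : zK * j * zK = (x⁻¹ * x1)⁻¹ * j * (x⁻¹ * x1) := by
      conv_lhs => arg 1; arg 1; rw [← hzKinv]
      rcases hF with h | h
      · rw [h]
      · rw [h]
        calc (x⁻¹ * x1 * zJ)⁻¹ * j * (x⁻¹ * x1 * zJ)
            = zJ⁻¹ * ((x⁻¹ * x1)⁻¹ * j * (x⁻¹ * x1)) * zJ := by group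
          _ = (x⁻¹ * x1)⁻¹ * j * (x⁻¹ * x1) := by
            have hc : Commute ((x⁻¹ * x1)⁻¹ * j * (x⁻¹ * x1)) zJ := by
              have hx' : Commute (x⁻¹ * x1) zJ :=
                (show Commute x zJ from M.hJ.comm_z hxJ).inv_left.mul_left hxJ1
              exact (hx'.inv_left.mul_left cjz).mul_left hx'
            rw [mul_assoc, hc.eq, inv_mul_cancel_left]
    have hcx' : Commute x⁻¹ x1 := Commute.inv_left hcx
    rw [e]
    calc (x⁻¹ * x1)⁻¹ * j * (x⁻¹ * x1) = (x1 * x⁻¹)⁻¹ * j * (x1 * x⁻¹) := by rw [hcx'.eq]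
      _ = x * (x1⁻¹ * j * x1) * x⁻¹ := by group
      _ = x * j * x⁻¹ := by rw [h2]
      _ = (x * x) * (x⁻¹ * j * x) * (x * x)⁻¹ := by group
      _ = j * zJ := by
        rw [h1, hxx, invol_inv M.hJ.ord]
        calc zJ * (j * zJ) * zJ = zJ * j * (zJ * zJ) := by group
          _ = j * zJ := by rw [invol_mul_self M.hJ.ord, mul_one, cjz.symm.eq]
  set j1 := y⁻¹ * j * y with hj1
  have hj1J : j1 ∈ cj y⁻¹ J := inv_conj_mem hjJ
  have hj1T : j1 ∈ T := mul_mem (mul_mem (inv_mem hyT) hjT) hyT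
  have hcj : Commute j j1 := M.hJ.comm M.hJ1 M.ne1.symm hT.pgrp hjJ hj1J hjT hj1T
  have cj1z : Commute j1 zJ := M.hJ1.comm_z hj1J
  have cyK : Commute y zK := M.hK.comm_z M.mem
  have cyJ : Commute y zJ := M.comm
  have hKK := invol_mul_self M.hK.ord
  have hJJ := invol_mul_self M.hJ.ord
  have hj1sq : j1 * j1 = zJ := by
    rw [hj1, show y⁻¹ * j * y * (y⁻¹ * j * y) = y⁻¹ * (j * j) * y by group, hjj, mul_assoc,
      ← cyJ.eq, inv_mul_cancel_left]
  have hj1K : zK * j1 * zK = j1 * zJ := by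
    rw [hj1]
    calc zK * (y⁻¹ * j * y) * zK = zK * y⁻¹ * j * (y * zK) := by group
      _ = y⁻¹ * zK * j * (zK * y) := by rw [cyK.inv_left.eq, cyK.eq]
      _ = y⁻¹ * (zK * j * zK) * y := by group
      _ = y⁻¹ * j * (zJ * y) := by rw [hjK]; group
      _ = y⁻¹ * j * y * zJ := by rw [← cyJ.eq]; group
  set u0 := j * j1 with hu0
  have hu0ne : u0 ≠ 1 := by
    intro e
    have hjJ1 : j ∈ cj y⁻¹ J := by rw [eq_inv_of_mul_eq_one_left e]; exact inv_mem hj1J
    have := M.hJ.inter_sq M.hJ1 M.ne1.symm hjJ hjJ1 (is2_of_sq M.hJ.ord hjj)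
    exact (M.hJ.qp hT).sq_ne_one hjj this
  have hu0z : Commute u0 zJ := cjz.mul_left cj1z
  have hu0sq : u0 * u0 = 1 := by
    rw [hu0, show j * j1 * (j * j1) = j * (j1 * j) * j1 by group, ← hcj.eq,
      show j * (j * j1) * j1 = (j * j) * (j1 * j1) by group, hjj, hj1sq, hJJ]
  have hu0K : zK * u0 * zK = u0 := by
    calc zK * u0 * zK = (zK * j * zK) * (zK * j1 * zK) := by
          rw [hu0, show zK * j * zK * (zK * j1 * zK) = zK * j * (zK * zK) * j1 * zK by group, hKK]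
          group
      _ = j * (zJ * j1) * zJ := by rw [hjK, hj1K]; group
      _ = u0 := by rw [← cj1z.eq, hu0, mul_assoc, mul_assoc j1, hJJ, mul_one]
  have hu0y : y⁻¹ * u0 * y = u0 * zJ := by
    have e1 : y⁻¹ * j1 * y = j * zJ := by
      rw [hj1, show y⁻¹ * (y⁻¹ * j * y) * y = (y * y)⁻¹ * j * (y * y) by group, hyy, hzKinv, hjK]
    rw [hu0, show y⁻¹ * (j * j1) * y = (y⁻¹ * j * y) * (y⁻¹ * j1 * y) by group, e1, ← hj1,
      ← mul_assoc, ← hcj.eq]
  -- the quotient computation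
  set π := QuotientGroup.mk' (Cfsg.pPrimeCore 2 ↥(centralizer ({zJ} : Set G))) with hπ
  have hyC : y ∈ centralizer ({zJ} : Set G) := mem_centralizer_comm.mpr M.comm
  have hzC : zJ ∈ centralizer ({zJ} : Set G) := M.hJ.le M.hJ.mem
  have hkC : zK ∈ centralizer ({zJ} : Set G) := mem_centralizer_comm.mpr M.z_comm.symm
  let zz : ↥(centralizer ({zJ} : Set G)) := ⟨zJ, hzC⟩
  let xx : ↥(centralizer ({zJ} : Set G)) := ⟨x, M.hJ.le hxJ⟩
  let jj : ↥(centralizer ({zJ} : Set G)) := ⟨j, M.hJ.le hjJ⟩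
  let cc : ↥(centralizer ({zJ} : Set G)) := ⟨c0, M.hJ.le hc0J⟩
  let yy : ↥(centralizer ({zJ} : Set G)) := ⟨y, hyC⟩
  let kk : ↥(centralizer ({zJ} : Set G)) := ⟨zK, hkC⟩
  have hcom : ∀ s s', s ∈ ({π xx, π jj, π cc} : Set _) → s' ∈ ({π xx, π jj, π cc} : Set _) →
      Commute s ((π yy)⁻¹ * s' * π yy) := by
    have h0 : ∀ a ∈ J, ∀ b ∈ J, ∀ (haC : a ∈ centralizer ({zJ} : Set G))
        (hbC : b ∈ centralizer ({zJ} : Set G)),
        Commute (π ⟨a, haC⟩) ((π yy)⁻¹ * π ⟨b, hbC⟩ * π yy) := by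
      intro a ha b hb haC hbC
      rw [← map_inv, ← map_mul, ← map_mul]
      exact M.hJ.quot_comm M.hJ1 M.ne1.symm ha (inv_conj_mem hb)
    intro s s' hs hs'
    rcases hs with rfl | rfl | rfl <;> rcases hs' with rfl | rfl | rfl <;>
      exact h0 _ (by assumption) _ (by assumption) _ _
  obtain ⟨hc1, hc2⟩ := conj_calc (x := π xx) (j := π jj) (c0 := π cc) (y := π yy) (z := π zz) (k := π kk)
    (fun q => by
      obtain ⟨g, rfl⟩ := QuotientGroup.mk'_surjective _ q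
      rw [← map_mul, ← map_mul]
      exact congrArg π (Subtype.ext (mem_centralizer_comm.mp g.2)))
    (by rw [← map_mul, show zz * zz = 1 from Subtype.ext hJJ, map_one])
    (by rw [← map_mul, show xx * xx = zz from Subtype.ext hxx])
    (by rw [← map_mul, show jj * jj = zz from Subtype.ext hjj])
    (by rw [← map_inv, ← map_inv, ← map_mul, ← map_mul]; exact congrArg π (Subtype.ext hjx))
    (by
      rcases hc0 with h | h
      · exact Or.inl (by rw [← map_inv, ← map_mul, ← map_mul]; exact congrArg π (Subtype.ext h))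
      · exact Or.inr (by rw [← map_inv, ← map_inv, ← map_mul, ← map_mul]; exact congrArg π (Subtype.ext h)))
    hcom
    (by rw [← map_mul, show yy * yy = kk from Subtype.ext hyy])
    (by
      rcases hF with h | h
      · exact Or.inl (by simp only [← map_inv, ← map_mul]; exact congrArg π (Subtype.ext h))
      · exact Or.inr (by simp only [← map_inv, ← map_mul]; exact congrArg π (Subtype.ext h)))
  simp only [← map_inv, ← map_mul] at hc1 hc2
  set c := c0 * (y⁻¹ * c0 * y) with hc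
  have hcC : c ∈ centralizer ({zJ} : Set G) :=
    mul_mem (M.hJ.le hc0J) (mul_mem (mul_mem (inv_mem hyC) (M.hJ.le hc0J)) hyC)
  have hu0C : u0 ∈ centralizer ({zJ} : Set G) := mem_centralizer_comm.mpr hu0z.eq
  -- `u`, conjugate to `zK` modulo the core
  obtain ⟨u, hu2, huz, huK, huy, hucore⟩ : ∃ u, orderOf u = 2 ∧ u * zJ = zJ * u ∧ u * zK = zK * u ∧
      y⁻¹ * u * y = u * zJ ∧ (c * u * c⁻¹)⁻¹ * zK ∈ core zJ := by
    have hcu : ∀ g (hg : g ∈ centralizer ({zJ} : Set G)), c * g * c⁻¹ ∈ centralizer ({zJ} : Set G) :=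
      fun g hg => mul_mem (mul_mem hcC hg) (inv_mem hcC)
    have hu0o : orderOf u0 = 2 := orderOf_eq_prime (p := 2) (by rw [_root_.sq, hu0sq]) hu0ne
    have hu0k : u0 * zK = zK * u0 := ((invol_conj_eq_iff M.hK.ord).mp hu0K).symm
    rcases hc1 with h | h
    · exact ⟨u0, hu0o, hu0z.eq, hu0k, hu0y, (mk_eq_iff (hcu u0 hu0C) hkC).mp h⟩
    · refine ⟨u0 * zJ, ?_, ?_, ?_, ?_, ?_⟩
      · refine orderOf_eq_prime (p := 2) ?_ ?_
        · rw [_root_.sq, (show Commute zJ u0 from hu0z.symm).mul_mul_mul_comm, hu0sq, hJJ, one_mul]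
        · intro e
          apply M.z_ne
          have e' : u0 = zJ := by rw [eq_inv_of_mul_eq_one_left e, invol_inv M.hJ.ord]
          have h5 := hu0y
          rw [e', hJJ, mul_assoc, ← cyJ.eq, inv_mul_cancel_left] at h5
          exact absurd h5 (fun h6 => by
            have := M.hJ.ord
            rw [h6, orderOf_one] at this
            omega)
      · exact ((show Commute u0 zJ from hu0z).mul_left (Commute.refl zJ)).eq
      · exact ((show Commute u0 zK from hu0k).mul_left (show Commute zJ zK from M.z_comm)).eq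
      · calc y⁻¹ * (u0 * zJ) * y = y⁻¹ * u0 * (zJ * y) := by group
          _ = y⁻¹ * u0 * (y * zJ) := by rw [cyJ.eq]
          _ = u0 * zJ * zJ := by rw [← mul_assoc, hu0y]
      · have hkz : zK * zJ ∈ centralizer ({zJ} : Set G) := mul_mem hkC hzC
        have h7 := (mk_eq_iff (hcu u0 hu0C) hkz).mp h
        have e : (c * (u0 * zJ) * c⁻¹)⁻¹ * zK = (c * u0 * c⁻¹)⁻¹ * (zK * zJ) := by
          have hcz : Commute (c * u0 * c⁻¹) zJ := mem_centralizer_comm.mp (hcu u0 hu0C)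
          have hcz2 : Commute c zJ := mem_centralizer_comm.mp hcC
          have e1 : c * (u0 * zJ) * c⁻¹ = c * u0 * c⁻¹ * zJ := by
            calc c * (u0 * zJ) * c⁻¹ = c * u0 * (zJ * c⁻¹) := by group
              _ = c * u0 * (c⁻¹ * zJ) := by rw [hcz2.inv_left.eq]
              _ = c * u0 * c⁻¹ * zJ := by group
          rw [e1, hcz.eq, mul_inv_rev, invol_inv M.hJ.ord, mul_assoc, M.z_comm]
        rwa [e]
  obtain ⟨o, hoc, ho⟩ := exists_core_conj
    ((orderOf_injective (MulAut.conj c).toMonoidHom (MulAut.conj c).injective u).trans hu2) M.hK.ord hucore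
  set c' := o * c with hc'
  have hc'C : c' ∈ centralizer ({zJ} : Set G) := mul_mem (core_le zJ hoc) hcC
  have hc'z : c' * zJ * c'⁻¹ = zJ := conj_eq_self_iff.mpr (mem_centralizer_comm.mp hc'C)
  have hcu' : c' * u * c'⁻¹ = zK := by
    rw [hc', ← ho]
    show o * c * u * (o * c)⁻¹ = o * (c * u * c⁻¹) * o⁻¹
    group
  set b := c' * zK * c'⁻¹ with hb
  have hb2 : orderOf b = 2 :=
    (orderOf_injective (MulAut.conj c').toMonoidHom (MulAut.conj c').injective zK).trans M.hK.ord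
  have hbJ : b * zJ = zJ * b := by
    have := conj_comm_of_comm (g := c') M.z_comm.symm
    rwa [hc'z, ← hb] at this
  have hbK : b * zK = zK * b := by
    have := conj_comm_of_comm (g := c') huK.symm
    rwa [hcu', ← hb] at this
  have hbC : b ∈ centralizer ({zJ} : Set G) := mem_centralizer_comm.mpr hbJ
  have hrel : zJ * (y⁻¹ * (b * y * b)) ∈ core zJ := by
    have hgC : y⁻¹ * (b * y * b) ∈ centralizer ({zJ} : Set G) :=
      mul_mem (inv_mem hyC) (mul_mem (mul_mem hbC hyC) hbC)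
    have hπb : π ⟨b, hbC⟩ = π ⟨c * zK * c⁻¹, mul_mem (mul_mem hcC hkC) (inv_mem hcC)⟩ := by
      have hπo : π ⟨o, core_le zJ hoc⟩ = 1 := (QuotientGroup.eq_one_iff _).mpr ((mem_core_iff _).mp hoc)
      have e : (⟨b, hbC⟩ : ↥(centralizer ({zJ} : Set G))) =
          ⟨o, core_le zJ hoc⟩ * ⟨c * zK * c⁻¹, mul_mem (mul_mem hcC hkC) (inv_mem hcC)⟩ *
            (⟨o, core_le zJ hoc⟩ : ↥(centralizer ({zJ} : Set G)))⁻¹ := by
        refine Subtype.ext ?_
        show b = o * (c * zK * c⁻¹) * o⁻¹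
        rw [hb, hc']; group
      rw [e, map_mul, map_mul, map_inv, hπo]; group
    have hπg : π ⟨y⁻¹ * (b * y * b), hgC⟩ = π zz := by
      have e : (⟨y⁻¹ * (b * y * b), hgC⟩ : ↥(centralizer ({zJ} : Set G))) =
          yy⁻¹ * ⟨b, hbC⟩ * yy * ⟨b, hbC⟩ := Subtype.ext (by
        show y⁻¹ * (b * y * b) = y⁻¹ * b * y * b
        group)
      rw [e, map_mul, map_mul, map_mul, hπb, ← map_mul, ← map_mul, ← map_mul]
      exact hc2
    refine (mem_core_iff (mul_mem hzC hgC)).mpr ((QuotientGroup.eq_one_iff _).mp ?_)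
    show π (zz * ⟨y⁻¹ * (b * y * b), hgC⟩) = 1
    rw [map_mul, hπg, ← map_mul, show zz * zz = 1 from Subtype.ext hJJ, map_one]
  obtain ⟨hbmov, hbpow⟩ := M.moves_of_rel hyy hb2 hbJ hbK hrel
  have hf2 : orderOf (zK * zJ) = 2 := by
    refine orderOf_eq_prime (p := 2) ?_ fun e => M.z_ne ?_
    · rw [_root_.sq, mul_assoc, ← mul_assoc zJ, M.z_comm, mul_assoc, hJJ, mul_one, hKK]
    · rw [eq_inv_of_mul_eq_one_right e, hzKinv]
  have cKz : Commute zK zJ := M.z_comm.symm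
  have hfz : zK * zJ * zK = zK * (zK * zJ) := by rw [mul_assoc, cKz.symm.eq]
  have hfb : zK * zJ * b = b * (zK * zJ) :=
    ((show Commute zK b from hbK.symm).mul_left (show Commute zJ b from hbJ.symm)).eq
  have hlay := M.hK.diag_inLayer hb2 hbK hbmov M.mem (is2_of_invol hf2)
    (fun e => by rw [e, orderOf_one] at hf2; omega) hfz hfb hbpow
  have hlay' := hlay.conj c'⁻¹
  have e1 : c'⁻¹ * zK * c'⁻¹⁻¹ = u := by rw [← hcu']; group
  have e2 : c'⁻¹ * b * c'⁻¹⁻¹ = zK := by rw [hb]; group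
  have e3 : c'⁻¹ * (zK * zJ) * c'⁻¹⁻¹ = u * zJ := by
    rw [show c'⁻¹ * (zK * zJ) * c'⁻¹⁻¹ = (c'⁻¹ * zK * c'⁻¹⁻¹) * (c'⁻¹ * zJ * c'⁻¹⁻¹) by group, e1,
      inv_inv]
    congr 1
    nth_rw 1 [← hc'z]
    group
  rw [e1, e2, e3] at hlay'
  have hfix := hlay'.symm.cj_eq M.hK hu2 huK
  rw [cj_mul, M.cjK] at hfix
  refine (M.moves_of_rel hyy hu2 huz huK ?_).1 hfix
  have e4 : y⁻¹ * (u * y * u) = zJ := by
    calc y⁻¹ * (u * y * u) = (y⁻¹ * u * y) * u := by group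
      _ = u * zJ * u := by rw [huy]
      _ = zJ * (u * u) := by rw [huz, mul_assoc]
      _ = zJ := by rw [invol_mul_self hu2, mul_one]
  rw [e4, hJJ]
  exact one_mem _

/-- An element of order four of `J` centralizing `zK` and moving `K`, with `k` exchanging `zJ`. -/
theorem false_of_moving (hyy : y * y = zK) {T T' : Subgroup G}
    (hT : Syl (centralizer ({zJ} : Set G)) T) (hyT : y ∈ T) {x : G} (hx : x ∈ T ⊓ J)
    (hxx : x * x = zJ) (hxK : x * zK = zK * x) (hxmov : cj x K ≠ K)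
    (hT' : IsPGroup 2 T') (hxT' : x ∈ T') {k : G} (hk : k ∈ K) (hkT' : k ∈ T')
    (hkz : k * zJ * k⁻¹ = zK * zJ) : False := by
  obtain ⟨hxT, hxJ⟩ := Subgroup.mem_inf.mp hx
  have cxK : Commute x zK := hxK
  have cxJ : Commute x zJ := M.hJ.comm_z hxJ
  have ckK : Commute k zK := M.hK.comm_z hk
  have hKK := invol_mul_self M.hK.ord
  have hJJ := invol_mul_self M.hJ.ord
  have hKx : cj x⁻¹ K ≠ K := fun e => hxmov (by simpa using cj_inv e)
  have hUx : UI (cj x⁻¹ K) zK := M.hK.conj_of_comm cxK.inv_left.eq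
  set k' := x⁻¹ * k * x with hk'
  have hk'T : k' ∈ T' := mul_mem (mul_mem (inv_mem hxT') hkT') hxT'
  have hkk' : Commute k k' := M.hK.comm hUx hKx.symm hT' hk (inv_conj_mem hk) hkT' hk'T
  have hk'K : Commute k' zK := (cxK.inv_left.mul_left ckK).mul_left cxK
  have hzkz : zJ * k * zJ = zK * k := by
    calc zJ * k * zJ = zJ * (k * zJ * k⁻¹) * k := by group
      _ = zJ * zK * zJ * k := by rw [hkz]; group
      _ = zK * k := by rw [M.z_comm, mul_assoc zK, hJJ, mul_one]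
  set v := k * k' with hv
  have hxvx : x⁻¹ * v * x = v * zK := by
    calc x⁻¹ * v * x = k' * ((x * x)⁻¹ * k * (x * x)) := by rw [hv, hk']; group
      _ = k' * (zK * k) := by rw [hxx, invol_inv M.hJ.ord, hzkz]
      _ = k' * k * zK := by rw [← ckK.eq, ← mul_assoc k']
      _ = v * zK := by rw [← hkk'.eq]
  have hvz : v * zJ = zJ * v := by
    rw [← conj_eq_self_iff]
    have h1 : k' * zJ * k'⁻¹ = zK * zJ := by
      calc k' * zJ * k'⁻¹ = x⁻¹ * (k * (x * zJ * x⁻¹) * k⁻¹) * x := by rw [hk']; group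
        _ = x⁻¹ * (zK * zJ) * x := by rw [conj_eq_self_iff.mpr cxJ.eq, hkz]
        _ = zK * zJ := by rw [mul_assoc, ← (cxK.mul_right cxJ).eq, inv_mul_cancel_left]
    calc v * zJ * v⁻¹ = k * (k' * zJ * k'⁻¹) * k⁻¹ := by rw [hv]; group
      _ = (k * zK * k⁻¹) * (k * zJ * k⁻¹) := by rw [h1]; group
      _ = zJ := by rw [conj_eq_self_iff.mpr ckK.eq, hkz, ← mul_assoc, hKK, one_mul]
  have hvK : Commute v zK := ckK.mul_left hk'K
  have hxv : v⁻¹ * x * v = x * zK := by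
    have e : x⁻¹ * v = v * zK * x⁻¹ := by rw [← hxvx]; group
    calc v⁻¹ * x * v = (x⁻¹ * v)⁻¹ * v := by group
      _ = x * (zK⁻¹ * v⁻¹ * v) := by rw [e]; group
      _ = x * zK := by rw [inv_mul_cancel_right, invol_inv M.hK.ord]
  have hUv : UI (cj v⁻¹ J) zJ := M.hJ.conj_of_comm (show Commute v⁻¹ zJ from Commute.inv_left hvz)
  have hzKT : zK ∈ T := hyy ▸ mul_mem hyT hyT
  have hxzv : x * zK ∈ cj v⁻¹ J := hxv ▸ inv_conj_mem hxJ
  have hJv : cj v⁻¹ J ≠ J := by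
    intro e
    apply M.z_ne
    have h : x * zK ∈ J := e ▸ hxzv
    exact (M.hJ.uniq zK (by simpa using mul_mem (inv_mem hxJ) h) M.hK.ord).symm
  -- the two images of `J` coincide
  have hsame : cj v⁻¹ J = cj y⁻¹ J := by
    by_contra hdiff
    obtain ⟨j, hj, hjj, hjx⟩ := (M.hJ.qp hT).exists_inverter hx hxx
    obtain ⟨hjT, hjJ⟩ := Subgroup.mem_inf.mp hj
    have cjxz : Commute j (x * zK) :=
      M.hJ.comm hUv hJv.symm hT.pgrp hjJ hxzv hjT (mul_mem hxT hzKT)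
    set j1 := y⁻¹ * j * y with hj1
    have hj1T : j1 ∈ T := mul_mem (mul_mem (inv_mem hyT) hjT) hyT
    have c1 : Commute j1 x := (M.hJ.comm M.hJ1 M.ne1.symm hT.pgrp hxJ (inv_conj_mem hjJ) hxT hj1T).symm
    have c2 : Commute j1 (x * zK) :=
      M.hJ1.comm hUv (Ne.symm hdiff) hT.pgrp (inv_conj_mem hjJ) hxzv hj1T (mul_mem hxT hzKT)
    have c3 : Commute j1 zK := by
      have := c1.inv_right.mul_right c2
      rwa [inv_mul_cancel_left] at this
    have cyK : Commute y zK := M.hK.comm_z M.mem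
    have c4 : Commute j zK := by
      have := (cyK.mul_left c3).mul_left cyK.inv_left
      rwa [hj1, show y * (y⁻¹ * j * y) * y⁻¹ = j by group] at this
    have c5 : Commute j x := by
      have := cjxz.mul_right c4
      rwa [mul_assoc, hKK, mul_one] at this
    rw [c5.eq, mul_inv_cancel_right] at hjx
    exact (M.hJ.qp hT).sq_ne_one hxx (eq_inv_iff_mul_eq_one.mp hjx)
  set x1 := y⁻¹ * x * y with hx1
  have hx1T : x1 ∈ T := mul_mem (mul_mem (inv_mem hyT) hxT) hyT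
  have cyK : Commute y zK := M.hK.comm_z M.mem
  have hx1K : Commute x1 zK := (cyK.inv_left.mul_left cxK).mul_left cyK
  have hxzJ1 : x * zK ∈ cj y⁻¹ J := hsame ▸ hxzv
  have hqJ1 : x⁻¹ * (x1 * zK) ∈ cj y⁻¹ J := by
    have e : x⁻¹ * (x1 * zK) = (x * zK)⁻¹ * x1 := by
      rw [mul_inv_rev, invol_inv M.hK.ord, hx1K.eq, ← mul_assoc, cxK.inv_left.eq]
    rw [e]
    exact mul_mem (inv_mem hxzJ1) (inv_conj_mem hxJ)
  have hqJ : x⁻¹ * (x1 * zK) ∈ J := by
    refine mul_mem (inv_mem hxJ) ?_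
    obtain ⟨a, ha, hae⟩ := hxzJ1
    change y⁻¹ * a * y⁻¹⁻¹ = x * zK at hae
    have e : x1 * zK = y⁻¹ * (y⁻¹ * a * y⁻¹⁻¹) * y := by
      rw [hae, hx1]
      calc y⁻¹ * x * y * zK = y⁻¹ * x * (y * zK) := by group
        _ = y⁻¹ * x * (zK * y) := by rw [cyK.eq]
        _ = y⁻¹ * (x * zK) * y := by group
    rw [e, show y⁻¹ * (y⁻¹ * a * y⁻¹⁻¹) * y = (y * y)⁻¹ * a * (y * y) by group, hyy]
    exact conj_mem_of_cj_eq' M.cjJ ha
  have hq2 : Is2 (x⁻¹ * (x1 * zK)) := is2_of_mem hT.pgrp (mul_mem (inv_mem hxT) (mul_mem hx1T hzKT))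
  have hq := (M.hJ.qp hT).sq_cases (Subgroup.mem_inf.mpr
    ⟨mul_mem (inv_mem hxT) (mul_mem hx1T hzKT), hqJ⟩) (M.hJ.inter_sq M.hJ1 M.ne1.symm hqJ hqJ1 hq2)
  refine M.false_of_pair hyy hT hyT hx hxx hxK ?_
  have hcx : Commute x x1 := M.hJ.comm M.hJ1 M.ne1.symm hT.pgrp hxJ (inv_conj_mem hxJ) hxT hx1T
  have hx1sq : x1 * x1 = zJ := by
    rw [hx1, show y⁻¹ * x * y * (y⁻¹ * x * y) = y⁻¹ * (x * x) * y by group, hxx, mul_assoc,
      ← M.comm, inv_mul_cancel_left]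
  have hinv : (x⁻¹ * x1)⁻¹ = x⁻¹ * x1 := by
    refine inv_eq_of_mul_eq_one_right ?_
    rw [hcx.symm.inv_right.mul_mul_mul_comm, ← mul_inv_rev, hxx, hx1sq, inv_mul_cancel]
  rw [← mul_assoc] at hq
  rcases hq with e | e
  · left
    rw [eq_inv_of_mul_eq_one_right e]
    exact hinv
  · right
    calc zK = (x⁻¹ * x1)⁻¹ * (x⁻¹ * x1 * zK) := by group
      _ = x⁻¹ * x1 * zJ := by rw [e, hinv]

theorem false_of_sq (hyy : y * y = zK) : False := by
  haveI : Fact (Nat.Prime 2) := ⟨Nat.prime_two⟩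
  have hy2 : Is2 y := M.two
  have cyJ : Commute y zJ := M.comm
  have cyK : Commute y zK := M.hK.comm_z M.mem
  have hJJ := invol_mul_self M.hJ.ord
  have hKK := invol_mul_self M.hK.ord
  have hzKinv := invol_inv M.hK.ord
  obtain ⟨T0, hT0, hle0⟩ := exists_syl (is2_zpowers hy2) (zpowers_le.mpr (Subgroup.mem_inf.mpr
    (⟨mem_centralizer_comm.mpr M.comm, mem_centralizer_comm.mpr (M.hK.comm_z M.mem)⟩ :
      y ∈ centralizer ({zJ} : Set G) ∧ y ∈ centralizer ({zK} : Set G))))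
  obtain ⟨T, hT, hle⟩ := exists_syl (C := centralizer ({zJ} : Set G)) hT0.pgrp (hT0.le.trans inf_le_left)
  have hyT : y ∈ T := hle (hle0 (mem_zpowers y))
  have hzKT : zK ∈ T := hyy ▸ mul_mem hyT hyT
  have hzJT : zJ ∈ T := hT.z_mem M.hJ.ord
  obtain ⟨T', hT', hle'⟩ := exists_syl (C := centralizer ({zK} : Set G))
    (R := T ⊓ centralizer ({zK} : Set G)) (hT.pgrp.to_le inf_le_left) inf_le_right
  have hmemT' : ∀ g ∈ T, g * zK = zK * g → g ∈ T' := fun g hg hgc =>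
    hle' (Subgroup.mem_inf.mpr ⟨hg, mem_centralizer_comm.mpr hgc⟩)
  have hyT' : y ∈ T' := hmemT' y hyT cyK.eq
  have hzJT' : zJ ∈ T' := hmemT' zJ hzJT M.z_comm
  have hQP := M.hJ.qp hT
  have hQP' := M.hK.qp hT'
  obtain ⟨k, hkP, hkk, hky⟩ := hQP'.exists_inverter (Subgroup.mem_inf.mpr ⟨hyT', M.mem⟩) hyy
  obtain ⟨hkT', hkK⟩ := Subgroup.mem_inf.mp hkP
  -- fixed elements normalizing `K`
  have hfixK : ∀ x ∈ T ⊓ J, x * x = zJ → x * zK = zK * x → cj x K ≠ K := by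
    intro x hx hxx hxK e
    obtain ⟨hxT, hxJ⟩ := Subgroup.mem_inf.mp hx
    set x1 := y⁻¹ * x * y with hx1
    have hx1T : x1 ∈ T := mul_mem (mul_mem (inv_mem hyT) hxT) hyT
    have hcx : Commute x x1 := M.hJ.comm M.hJ1 M.ne1.symm hT.pgrp hxJ (inv_conj_mem hxJ) hxT hx1T
    have hgK : x⁻¹ * x1 ∈ K := by
      rw [hx1, show x⁻¹ * (y⁻¹ * x * y) = (x⁻¹ * y⁻¹ * x) * y by group]
      exact mul_mem (conj_mem_of_cj_eq' e (inv_mem M.mem)) M.mem
    have hg1 : x⁻¹ * x1 ≠ 1 := by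
      intro h1
      have hxJ1 : x ∈ cj y⁻¹ J := by rw [inv_mul_eq_one.mp h1]; exact inv_conj_mem hxJ
      exact hQP.sq_ne_one hxx (M.hJ.inter_sq M.hJ1 M.ne1.symm hxJ hxJ1 (is2_of_sq M.hJ.ord hxx))
    have hg2 : orderOf (x⁻¹ * x1) = 2 := by
      refine orderOf_eq_prime (p := 2) ?_ hg1
      have hx1sq : x1 * x1 = zJ := by
        rw [hx1, show y⁻¹ * x * y * (y⁻¹ * x * y) = y⁻¹ * (x * x) * y by group, hxx, mul_assoc,
          ← M.comm, inv_mul_cancel_left]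
      rw [_root_.sq, hcx.symm.inv_right.mul_mul_mul_comm, ← mul_inv_rev, hxx, hx1sq, inv_mul_cancel]
    exact M.false_of_pair hyy hT hyT hx hxx hxK (Or.inl (M.hK.uniq _ hgK hg2).symm)
  by_cases hinv : ∃ j ∈ T ⊓ J, j * j = zJ ∧ zK * j * zK = j⁻¹
  · obtain ⟨j, hj, hjj, hjK⟩ := hinv
    obtain ⟨hjT, hjJ⟩ := Subgroup.mem_inf.mp hj
    have cjz : Commute j zJ := M.hJ.comm_z hjJ
    have hjinv : j⁻¹ = j * zJ := inv_eq_mul_of_sq M.hJ.ord hjj
    set j1 := y⁻¹ * j * y with hj1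
    have hj1T : j1 ∈ T := mul_mem (mul_mem (inv_mem hyT) hjT) hyT
    have hcj : Commute j j1 := M.hJ.comm M.hJ1 M.ne1.symm hT.pgrp hjJ (inv_conj_mem hjJ) hjT hj1T
    have cj1z : Commute j1 zJ := M.hJ1.comm_z (inv_conj_mem hjJ)
    set u := j * j1 with hu
    have huT : u ∈ T := mul_mem hjT hj1T
    have huy : y⁻¹ * u * y = u * zJ := by
      have e1 : y⁻¹ * j1 * y = j * zJ := by
        rw [hj1, show y⁻¹ * (y⁻¹ * j * y) * y = (y * y)⁻¹ * j * (y * y) by group, hyy, hzKinv, hjK, hjinv]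
      rw [hu, show y⁻¹ * (j * j1) * y = (y⁻¹ * j * y) * (y⁻¹ * j1 * y) by group, e1, ← hj1,
        ← mul_assoc, ← hcj.eq]
    have huK : u * zK = zK * u := by
      have e1 : zK * j1 * zK = j1 * zJ := by
        rw [hj1]
        calc zK * (y⁻¹ * j * y) * zK = zK * y⁻¹ * j * (y * zK) := by group
          _ = y⁻¹ * zK * j * (zK * y) := by rw [cyK.inv_left.eq, cyK.eq]
          _ = y⁻¹ * (zK * j * zK) * y := by group
          _ = y⁻¹ * j * (zJ * y) := by rw [hjK, hjinv]; group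
          _ = y⁻¹ * j * y * zJ := by rw [← cyJ.eq]; group
      refine ((invol_conj_eq_iff M.hK.ord).mp ?_).symm
      calc zK * u * zK = (zK * j * zK) * (zK * j1 * zK) := by
            rw [hu, show zK * j * zK * (zK * j1 * zK) = zK * j * (zK * zK) * j1 * zK by group, hKK]
            group
        _ = j * (zJ * j1) * zJ := by rw [hjK, hjinv, e1]; group
        _ = u := by rw [← cj1z.eq, hu, mul_assoc, mul_assoc j1, hJJ, mul_one]
    have hyu : u⁻¹ * y * u = y * zJ := by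
      have cu : Commute u zJ := cjz.mul_left cj1z
      calc u⁻¹ * y * u = u⁻¹ * y * (u * zJ) * zJ⁻¹ := by group
        _ = u⁻¹ * y * (y⁻¹ * u * y) * zJ⁻¹ := by rw [huy]
        _ = y * zJ := by rw [invol_inv M.hJ.ord]; group
    have hKu : cj u⁻¹ K ≠ K := by
      intro e
      have h1 : y * zJ ∈ K := e ▸ hyu ▸ inv_conj_mem M.mem
      have h2 : zJ ∈ K := by simpa using mul_mem (inv_mem M.mem) h1
      exact M.z_ne (M.hK.uniq zJ h2 M.hJ.ord)
    have hUu : UI (cj u⁻¹ K) zK := M.hK.conj_of_comm (show Commute u⁻¹ zK from Commute.inv_left huK)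
    have hyzu : y * zJ ∈ cj u⁻¹ K := hyu ▸ inv_conj_mem M.mem
    have hckyz : k * (y * zJ) = (y * zJ) * k :=
      M.hK.comm hUu hKu.symm hT'.pgrp hkK hyzu hkT' (mul_mem hyT' hzJT')
    have hkz : k * zJ * k⁻¹ = zK * zJ := by
      calc k * zJ * k⁻¹ = (k * y * k⁻¹)⁻¹ * (k * (y * zJ) * k⁻¹) := by group
        _ = y * (y * zJ) := by rw [hky, inv_inv, hckyz, mul_inv_cancel_right]
        _ = zK * zJ := by rw [← mul_assoc, hyy]
    by_cases hfix : ∃ x ∈ T ⊓ J, x * x = zJ ∧ x * zK = zK * x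
    · obtain ⟨x, hx, hxx, hxK⟩ := hfix
      exact M.false_of_moving hyy hT hyT hx hxx hxK (hfixK x hx hxx hxK) hT'.pgrp
        (hmemT' x (Subgroup.mem_inf.mp hx).1 hxK) hkK hkT' hkz
    -- no element of order four of `J` centralizes `zK`
    have hno : ∀ x ∈ J, x * x = zJ → x * zK ≠ zK * x := by
      intro x hxJ hxx hxK
      have hsn : ((J ⊓ centralizer ({zK} : Set G)).subgroupOf
          (centralizer ({zJ} : Set G) ⊓ centralizer ({zK} : Set G))).IsSubnormal := by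
        have e : (J ⊓ centralizer ({zK} : Set G)).subgroupOf
            (centralizer ({zJ} : Set G) ⊓ centralizer ({zK} : Set G)) =
            (J.subgroupOf (centralizer ({zJ} : Set G))).comap
              (inclusion (inf_le_left : centralizer ({zJ} : Set G) ⊓ centralizer ({zK} : Set G) ≤ _)) := by
          ext g
          exact ⟨fun h => h.1, fun h => ⟨h, g.2.2⟩⟩
        rw [e]
        exact M.hJ.comp.1.comap _
      obtain ⟨c, hc, hcx⟩ := hT0.conj_mem hsn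
        (inf_le_inf_right _ M.hJ.le) (Subgroup.mem_inf.mpr ⟨hxJ, mem_centralizer_comm.mpr hxK⟩)
        (is2_of_sq M.hJ.ord hxx)
      obtain ⟨hcJ, hcK⟩ := Subgroup.mem_inf.mp hc
      refine hfix ⟨c * x * c⁻¹, Subgroup.mem_inf.mpr ⟨hle hcx, mul_mem (mul_mem hcJ hxJ) (inv_mem hcJ)⟩, ?_, ?_⟩
      · rw [sq_conj hxx, conj_eq_self_iff.mpr (M.hJ.comm_z hcJ)]
      · have := conj_comm_of_comm (g := c) hxK
        rwa [conj_eq_self_iff.mpr (mem_centralizer_comm.mp hcK)] at this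
    have hjz : j * zK * j⁻¹ = zJ * zK := conj_of_inverted M.hK.ord hjj hjK
    have ckK : Commute k zK := M.hK.comm_z hkK
    have hgz : j * k * zJ * (j * k)⁻¹ = zK := by
      calc j * k * zJ * (j * k)⁻¹ = j * (k * zJ * k⁻¹) * j⁻¹ := by group
        _ = (j * zK * j⁻¹) * (j * zJ * j⁻¹) := by rw [hkz]; group
        _ = zK := by
          rw [hjz, conj_eq_self_iff.mpr cjz.eq, mul_assoc, ← M.z_comm, ← mul_assoc, hJJ, one_mul]
    have hgk : j * k * zK * (j * k)⁻¹ = zJ * zK := by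
      calc j * k * zK * (j * k)⁻¹ = j * (k * zK * k⁻¹) * j⁻¹ := by group
        _ = zJ * zK := by rw [conj_eq_self_iff.mpr ckK.eq, hjz]
    have hL : UI (cj (j * k) J) zK := hgz ▸ M.hJ.conj (j * k)
    have hnoL : ∀ l ∈ cj (j * k) J, l * l = zK → l * zJ ≠ zJ * l := by
      rintro _ ⟨x, hxJ, rfl⟩ hll hlz
      change j * k * x * (j * k)⁻¹ * (j * k * x * (j * k)⁻¹) = zK at hll
      refine hno x hxJ ?_ ?_
      · have h : j * k * (x * x) * (j * k)⁻¹ = j * k * zJ * (j * k)⁻¹ := by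
          rw [hgz]; rw [← hll]; group
        exact mul_left_cancel (mul_right_cancel h)
      · have hlK : Commute (j * k * x * (j * k)⁻¹) zK := hL.comm_z ⟨x, hxJ, rfl⟩
        have h : Commute (j * k * x * (j * k)⁻¹) (j * k * zK * (j * k)⁻¹) := by
          rw [hgk]; exact Commute.mul_right hlz hlK
        have h' := conj_comm_of_comm (g := (j * k)⁻¹) h.eq
        simpa [mul_assoc] using h'
    have hLK : cj (j * k) J ≠ K := fun e => hnoL y (e ▸ M.mem) hyy M.comm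
    have hyzsq : y * zJ * (y * zJ) = zK := by
      rw [cyJ.symm.mul_mul_mul_comm, hyy, hJJ, mul_one]
    have hLu : cj (j * k) J ≠ cj u⁻¹ K := fun e =>
      hnoL (y * zJ) (e ▸ hyzu) hyzsq ((cyJ.mul_left (Commute.refl zJ)).eq)
    obtain ⟨l, hl, hll⟩ := (hL.qp hT').exists_four
    obtain ⟨hlT', hlL⟩ := Subgroup.mem_inf.mp hl
    refine hnoL l hlL hll ?_
    have c1 : Commute l y := hL.comm M.hK hLK hT'.pgrp hlL M.mem hlT' hyT'
    have c2 : Commute l (y * zJ) := hL.comm hUu hLu hT'.pgrp hlL hyzu hlT' (mul_mem hyT' hzJT')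
    have := c1.inv_right.mul_right c2
    rwa [inv_mul_cancel_left] at this
  -- `zK` fixes a quaternion subgroup
  push Not at hinv
  have hzKN : zK ∈ T ⊓ normalizer (J : Set G) :=
    Subgroup.mem_inf.mpr ⟨hzKT, mem_normalizer_iff_map_conj_eq.mpr M.cjJ⟩
  obtain ⟨x, hx, hxx, hxn⟩ := hQP.exists_normalized (T := T ⊓ normalizer (J : Set G))
    (hT.pgrp.to_le inf_le_left) (inf_le_inf_normalizer T J) (le_normalizer_inf T J)
  have hxfix : zK * x * zK⁻¹ = x := by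
    rcases hxn zK hzKN with e | e
    · exact e
    · rw [hzKinv] at e; exact absurd e (hinv x hx hxx)
  obtain ⟨q, hq, hqq, hqx⟩ := hQP.exists_inverter hx hxx
  obtain ⟨hxT, hxJ⟩ := Subgroup.mem_inf.mp hx
  obtain ⟨hqT, hqJ⟩ := Subgroup.mem_inf.mp hq
  have htn : ∀ p ∈ T ⊓ J, zK * p * zK⁻¹ ∈ T ⊓ J := fun p hp => Subgroup.mem_inf.mpr
    ⟨mul_mem (mul_mem hzKT (Subgroup.mem_inf.mp hp).1) (inv_mem hzKT),
      conj_mem_of_cj_eq M.cjJ (Subgroup.mem_inf.mp hp).2⟩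
  have ht2 : ∀ p ∈ T ⊓ J, zK * (zK * p * zK⁻¹) * zK⁻¹ = p := fun p _ => by
    rw [hzKinv, show zK * (zK * p * zK) * zK = (zK * zK) * p * (zK * zK) by group, hKK, one_mul, mul_one]
  have hnone : ∀ p ∈ T ⊓ J, p * p = zJ → zK * p * zK⁻¹ ≠ p⁻¹ := fun p hp hpp => by
    rw [hzKinv]; exact hinv p hp hpp
  have hqfix := hQP.fixed_inverter htn ht2 hnone hx hxx hxfix hq hqx
  have hxq : x * q * x * (x * q)⁻¹ = x⁻¹ := by
    calc x * q * x * (x * q)⁻¹ = x * (q * x * q⁻¹) * x⁻¹ := by group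
      _ = x⁻¹ := by rw [hqx]; group
  have hxqq : x * q * (x * q) = zJ := hQP.inverter_sq hx (mul_mem hx hq) hxx hxq
  have cxK : Commute x zK := ((invol_conj_eq_iff M.hK.ord).mp (by rwa [hzKinv] at hxfix)).symm
  have cqK : Commute q zK := ((invol_conj_eq_iff M.hK.ord).mp (by rwa [hzKinv] at hqfix)).symm
  have cxqK : Commute (x * q) zK := cxK.mul_left cqK
  have hxmov := hfixK x hx hxx cxK.eq
  have hqmov := hfixK q hq hqq cqK.eq
  have hxqmov := hfixK (x * q) (mul_mem hx hq) hxqq cxqK.eq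
  -- `a_s = y⁻¹ (s⁻¹ y s)`
  have hA : ∀ s ∈ T ⊓ J, s * s = zJ → s * zK = zK * s →
      Commute y ((y⁻¹ * s * y)⁻¹ * s) := by
    intro s hs hss hsK
    obtain ⟨hsT, hsJ⟩ := Subgroup.mem_inf.mp hs
    set S := y⁻¹ * s * y with hS
    have hSs : Commute s S := M.hJ.comm M.hJ1 M.ne1.symm hT.pgrp hsJ (inv_conj_mem hsJ) hsT
      (mul_mem (mul_mem (inv_mem hyT) hsT) hyT)
    have hSS : S * S = zJ := by
      rw [hS, show y⁻¹ * s * y * (y⁻¹ * s * y) = y⁻¹ * (s * s) * y by group, hss, mul_assoc,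
        ← M.comm, inv_mul_cancel_left]
    have e : y⁻¹ * (S⁻¹ * s) * y = S⁻¹ * s := by
      calc y⁻¹ * (S⁻¹ * s) * y = ((y * y)⁻¹ * s⁻¹ * (y * y)) * S := by rw [hS]; group
        _ = s⁻¹ * S := by
          rw [hyy, mul_assoc zK⁻¹ s⁻¹, (Commute.inv_left hsK).eq, inv_mul_cancel_left]
        _ = S⁻¹ * s := by
          have hz : S⁻¹ * s * (S⁻¹ * s) = 1 := by
            rw [hSs.inv_right.mul_mul_mul_comm, ← mul_inv_rev, hSS, hss, inv_mul_cancel]
          have h2 : (S⁻¹ * s)⁻¹ = S⁻¹ * s := inv_eq_of_mul_eq_one_right hz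
          rw [← h2]; group
    calc y * (S⁻¹ * s) = y * (y⁻¹ * (S⁻¹ * s) * y) := by rw [e]
      _ = S⁻¹ * s * y := by group
  set X := y⁻¹ * x * y with hX
  set Q := y⁻¹ * q * y with hQ
  have hXT : X ∈ T := mul_mem (mul_mem (inv_mem hyT) hxT) hyT
  have hQT : Q ∈ T := mul_mem (mul_mem (inv_mem hyT) hqT) hyT
  have cxQ : Commute x Q := M.hJ.comm M.hJ1 M.ne1.symm hT.pgrp hxJ (inv_conj_mem hqJ) hxT hQT
  have cqX : Commute q X := M.hJ.comm M.hJ1 M.ne1.symm hT.pgrp hqJ (inv_conj_mem hxJ) hqT hXT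
  have cxX : Commute x X := M.hJ.comm M.hJ1 M.ne1.symm hT.pgrp hxJ (inv_conj_mem hxJ) hxT hXT
  have cqQ : Commute q Q := M.hJ.comm M.hJ1 M.ne1.symm hT.pgrp hqJ (inv_conj_mem hqJ) hqT hQT
  have hXQ : y⁻¹ * (x * q) * y = X * Q := by rw [hX, hQ]; group
  have ca1 := hA x hx hxx cxK.eq
  have ca2 := hA q hq hqq cqK.eq
  have hy4 : y * y * (y * y) = 1 := by rw [hyy, hKK]
  have hXX : X * X = zJ := by
    rw [hX, show y⁻¹ * x * y * (y⁻¹ * x * y) = y⁻¹ * (x * x) * y by group, hxx, mul_assoc,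
      ← M.comm, inv_mul_cancel_left]
  have hQQ : Q * Q = zJ := by
    rw [hQ, show y⁻¹ * q * y * (y⁻¹ * q * y) = y⁻¹ * (q * q) * y by group, hqq, mul_assoc,
      ← M.comm, inv_mul_cancel_left]
  have hprod : y * (x⁻¹ * y * x) * (q⁻¹ * y * q) * ((x * q)⁻¹ * y * (x * q)) = zJ := by
    have hsx : ∀ s : G, s⁻¹ * y * s = y * ((y⁻¹ * s * y)⁻¹ * s) := fun s => by group
    rw [hsx x, hsx q, hsx (x * q), hXQ, ← hX, ← hQ]
    calc y * (y * (X⁻¹ * x)) * (y * (Q⁻¹ * q)) * (y * ((X * Q)⁻¹ * (x * q)))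
        = y * y * ((X⁻¹ * x) * y) * ((Q⁻¹ * q) * y) * ((X * Q)⁻¹ * (x * q)) := by group
      _ = y * y * (y * (X⁻¹ * x)) * (y * (Q⁻¹ * q)) * ((X * Q)⁻¹ * (x * q)) := by rw [← ca1.eq, ← ca2.eq]
      _ = y * y * y * ((X⁻¹ * x) * y) * (Q⁻¹ * q) * ((X * Q)⁻¹ * (x * q)) := by group
      _ = y * y * y * (y * (X⁻¹ * x)) * (Q⁻¹ * q) * ((X * Q)⁻¹ * (x * q)) := by rw [← ca1.eq]
      _ = (y * y * (y * y)) * (X⁻¹ * (x * Q⁻¹) * (q * Q⁻¹) * X⁻¹ * (x * q)) := by group
      _ = X⁻¹ * (Q⁻¹ * x) * (Q⁻¹ * q) * X⁻¹ * (x * q) := by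
        rw [hy4, one_mul, cxQ.inv_right.eq, cqQ.inv_right.eq]
      _ = X⁻¹ * Q⁻¹ * (x * Q⁻¹) * (q * X⁻¹) * (x * q) := by group
      _ = X⁻¹ * Q⁻¹ * (Q⁻¹ * x) * (X⁻¹ * q) * (x * q) := by rw [cxQ.inv_right.eq, cqX.inv_right.eq]
      _ = X⁻¹ * (Q * Q)⁻¹ * (x * X⁻¹) * q * (x * q) := by group
      _ = X⁻¹ * zJ * (X⁻¹ * x) * q * (x * q) := by rw [hQQ, invol_inv M.hJ.ord, cxX.inv_right.eq]
      _ = X⁻¹ * (zJ * X⁻¹) * (x * q * (x * q)) := by group
      _ = zJ := by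
        rw [hxqq, (show Commute zJ X⁻¹ from (Commute.inv_left
          (show Commute X zJ from M.hJ1.comm_z (inv_conj_mem hxJ))).symm).eq, ← mul_assoc,
          ← mul_inv_rev, hXX, invol_inv M.hJ.ord, hJJ, one_mul]
  have hkz : k * zJ * k⁻¹ = zK * zJ := by
    have hcomm : ∀ s ∈ T ⊓ J, s * zK = zK * s → cj s K ≠ K → Commute k (s⁻¹ * y * s) := by
      intro s hs hsK hmov
      have hsT' := hmemT' s (Subgroup.mem_inf.mp hs).1 hsK
      exact M.hK.comm (M.hK.conj_of_comm (show Commute s⁻¹ zK from Commute.inv_left hsK))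
        (fun e => hmov (by simpa using cj_inv e.symm)) hT'.pgrp hkK (inv_conj_mem M.mem) hkT'
        (mul_mem (mul_mem (inv_mem hsT') hyT') hsT')
    have hc := ((hcomm x hx cxK.eq hxmov).mul_right (hcomm q hq cqK.eq hqmov)).mul_right
      (hcomm (x * q) (mul_mem hx hq) cxqK.eq hxqmov)
    set R := x⁻¹ * y * x * (q⁻¹ * y * q) * ((x * q)⁻¹ * y * (x * q)) with hR
    have hR' : R = y⁻¹ * zJ := by
      rw [← hprod, hR]; group
    rw [hR'] at hc
    calc k * zJ * k⁻¹ = (k * y * k⁻¹) * (k * (y⁻¹ * zJ) * k⁻¹) := by group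
      _ = y⁻¹ * (y⁻¹ * zJ) := by rw [hky, hc.eq, mul_inv_cancel_right]
      _ = zK * zJ := by rw [← mul_assoc, ← mul_inv_rev, hyy, hzKinv]
  exact M.false_of_moving hyy hT hyT hx hxx cxK.eq hxmov hT'.pgrp (hmemT' x hxT cxK.eq) hkK hkT' hkz

end Mover

/-- No element of order four of `K` centralizing `zJ` moves `J`. -/
theorem no_mover_four (hJ : UI J zJ) (hK : UI K zK) (hy : y ∈ K) (hyy : y * y = zK)
    (hc : y * zJ = zJ * y) : cj y J = J := by
  by_contra h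
  exact (Mover.mk hJ hK hy (is2_of_sq hK.ord hyy)
    (fun e => by have := hK.ord; rw [← hyy, e, orderOf_one] at this; omega) hc h).false_of_sq hyy

end CfsgLib.UniqInvol
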