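import Cfsg.Agent.Lib.Components.UniqueInvol.Basics2

/-!
If the involution of `J` normalizes `K` then the involution of `K` normalizes `J`.
-/

set_option autoImplicit false
set_option linter.style.haveILetI false
set_option linter.unusedVariables false
set_option linter.unusedSectionVars false

namespace CfsgLib.UniqInvol

open Subgroup CfsgLib.Components
open scoped commutatorElement

universe u

variable {G : Type u} [Group G] [Finite G] {J K : Subgroup G} {zJ zK : G}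

theorem cj_eq_of_cj_eq (hJ : UI J zJ) (hK : UI K zK) (h : cj zJ K = K) : cj zK J = J := by
  have hcomm : zJ * zK = zK * zJ := hK.comm_of_cj h
  by_contra hne
  have hne' : zJ ≠ zK := fun e => hne (e ▸ cj_eq_of_mem hJ.mem)
  have hJ' : UI (cj zK J) zJ := hJ.conj_of_comm hcomm.symm
  have hzKinv := invol_inv hK.ord
  have hJJ := invol_mul_self hJ.ord
  have hKK := invol_mul_self hK.ord
  -- products `x * x'`
  have key : ∀ T : Subgroup G, Syl (centralizer ({zJ} : Set G)) T → zK ∈ T → ∀ x ∈ T ⊓ J,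
      x * x = zJ → x * (zK * x * zK) = (zK * x * zK) * x ∧
        x * (zK * x * zK) ∈ T ∧ orderOf (x * (zK * x * zK)) = 2 ∧
        (x * (zK * x * zK)) * zJ = zJ * (x * (zK * x * zK)) ∧
        (x * (zK * x * zK)) * zK = zK * (x * (zK * x * zK)) ∧
        cj (x * (zK * x * zK)) J = J ∧
        (∀ k ∈ K, ⁅x * (zK * x * zK), k⁆ ∈ core zK) ∧
        (∀ q ∈ T ⊓ J, q * x * q⁻¹ = x⁻¹ → q * (x * (zK * x * zK)) ≠ (x * (zK * x * zK)) * q) := by
    intro T hT hzKT x hx hxx
    obtain ⟨hxT, hxJ⟩ := Subgroup.mem_inf.mp hx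
    set x' := zK * x * zK with hx'
    have hx'T : x' ∈ T := mul_mem (mul_mem hzKT hxT) hzKT
    have hx'J : x' ∈ cj zK J := ⟨x, hxJ, by
      show zK * x * zK⁻¹ = x'
      rw [hzKinv]⟩
    have hc : x * x' = x' * x := hJ.comm hJ' (Ne.symm hne) hT.pgrp hxJ hx'J hxT hx'T
    have hx'x' : x' * x' = zJ := by
      calc x' * x' = zK * x * (zK * zK) * x * zK := by rw [hx']; group
        _ = zK * (x * x) * zK := by rw [hKK, mul_one]; group
        _ = zJ := by rw [hxx, ← hcomm, mul_assoc, hKK, mul_one]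
    have hu1 : x * x' ≠ 1 := by
      intro e
      have hx'J' : x' ∈ J := by rw [eq_inv_of_mul_eq_one_right e]; exact inv_mem hxJ
      have := hJ.inter_sq hJ' (Ne.symm hne) hx'J' hx'J (is2_of_sq hJ.ord hx'x')
      rw [hx'x'] at this
      exact ne_of_gt (by norm_num : (1 : ℕ) < 2) (by rw [← hJ.ord, this, orderOf_one])
    have hu : orderOf (x * x') = 2 := by
      refine orderOf_eq_prime (p := 2) ?_ hu1
      rw [sq, show x * x' * (x * x') = x * (x' * x) * x' by group, ← hc,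
        show x * (x * x') * x' = (x * x) * (x' * x') by group, hxx, hx'x', hJJ]
    have huJ : (x * x') * zJ = zJ * (x * x') := by
      rw [mul_assoc, hJ'.comm_z hx'J, ← mul_assoc, hJ.comm_z hxJ, mul_assoc]
    have huK : (x * x') * zK = zK * (x * x') := by
      calc (x * x') * zK = x * zK * x * (zK * zK) := by rw [hx']; group
        _ = x * zK * x := by rw [hKK, mul_one]
        _ = zK * (zK * x * zK * x) := by
          rw [show zK * (zK * x * zK * x) = zK * zK * (x * zK * x) by group, hKK, one_mul]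
        _ = zK * (x' * x) := by rw [hx']
        _ = zK * (x * x') := by rw [hc]
    have hcjJ : cj (x * x') J = J := by
      rw [cj_mul, hJ.cj_of_mem hJ' hx'J, cj_eq_of_mem hxJ]
    have hlay : InLayer zJ zK (x * x') :=
      hJ.diag_inLayer hK.ord hcomm.symm hne hxJ (is2_of_invol hu) hu1 huJ huK (n := 1) (pow_one _)
    refine ⟨hc, mul_mem hxT hx'T, hu, huJ, huK, hcjJ, ?_, ?_⟩
    · rcases hlay.symm.mem_or_commutator hK hJ.ord hcomm h (is2_of_invol hu) with h1 | h1
      · exact absurd (hK.uniq _ h1 hu ▸ hcjJ) hne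
      · exact h1
    · intro q hq hqx e
      obtain ⟨hqT, hqJ⟩ := Subgroup.mem_inf.mp hq
      have hqc : q * x' = x' * q := hJ.comm hJ' (Ne.symm hne) hT.pgrp hqJ hx'J hqT hx'T
      have e1 : q * (x * x') * q⁻¹ = x⁻¹ * x' := by
        calc q * (x * x') * q⁻¹ = (q * x * q⁻¹) * (q * x' * q⁻¹) := by group
          _ = x⁻¹ * x' := by rw [hqx, hqc, mul_inv_cancel_right]
      rw [e, mul_inv_cancel_right] at e1
      have e2 : x = x⁻¹ := mul_right_cancel e1
      have e3 : x * x = 1 := eq_inv_iff_mul_eq_one.mp e2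
      rw [hxx] at e3
      have := hJ.ord
      rw [e3, orderOf_one] at this
      omega
  -- no element of order four of `K` centralizes `zJ`
  have nofix : ∀ k ∈ K, k * k = zK → k * zJ ≠ zJ * k := by
    intro k hk hkk hkc
    obtain ⟨T, hT, hle⟩ := exists_syl (is2_zpowers (is2_of_sq hK.ord hkk))
      (zpowers_le.mpr (mem_centralizer_comm.mpr hkc))
    have hkT : k ∈ T := hle (mem_zpowers k)
    have hzKT : zK ∈ T := hkk ▸ mul_mem hkT hkT
    obtain ⟨x, hx, hxx⟩ := (hJ.qp hT).exists_four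
    obtain ⟨hxT, hxJ⟩ := Subgroup.mem_inf.mp hx
    obtain ⟨hc, huT, hu, -, -, -, hcom, hq⟩ := key T hT hzKT x hx hxx
    obtain ⟨q, hqP, -, hqx⟩ := (hJ.qp hT).exists_inverter hx hxx
    obtain ⟨hqT, hqJ⟩ := Subgroup.mem_inf.mp hqP
    apply hq q hqP hqx
    set x' := zK * x * zK with hx'
    have hx'J : x' ∈ cj zK J := ⟨x, hxJ, by
      show zK * x * zK⁻¹ = x'
      rw [hzKinv]⟩
    have huk : (x * x') * k = k * (x * x') :=
      comm_of_commutator_core hT.pgrp huT hkT (hcom k hk)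
    have hfix : k⁻¹ * (x * x') * k = x * x' := by rw [mul_assoc, huk, inv_mul_cancel_left]
    -- the other pair of components
    have hk1 : cj k⁻¹ J ≠ J := by
      intro e
      apply hne
      have e' := cj_inv e
      rw [inv_inv] at e'
      rw [← hkk, cj_mul, e', e']
    have hk2 : cj k J ≠ J := fun e => hk1 (cj_inv e)
    have hUI1 : UI (cj k⁻¹ J) zJ := hJ.conj_of_comm (show Commute k⁻¹ zJ from Commute.inv_left hkc)
    have hUI2 : UI (cj k J) zJ := hJ.conj_of_comm hkc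
    have c1 : q * (k⁻¹ * x * k) = (k⁻¹ * x * k) * q := by
      refine hJ.comm hUI1 (Ne.symm hk1) hT.pgrp hqJ ?_ hqT (mul_mem (mul_mem (inv_mem hkT) hxT) hkT)
      exact ⟨x, hxJ, by show k⁻¹ * x * k⁻¹⁻¹ = _; rw [inv_inv]⟩
    have c2 : q * (k⁻¹ * x' * k) = (k⁻¹ * x' * k) * q := by
      refine hJ.comm hUI2 (Ne.symm hk2) hT.pgrp hqJ ?_ hqT
        (mul_mem (mul_mem (inv_mem hkT) (mul_mem (mul_mem hzKT hxT) hzKT)) hkT)
      refine ⟨x, hxJ, ?_⟩
      show k * x * k⁻¹ = k⁻¹ * x' * k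
      rw [hx', show k⁻¹ * (zK * x * zK) * k = (k⁻¹ * zK) * x * (zK * k) by group, ← hkk,
        inv_mul_cancel_left, mul_assoc k k k]
      have hk4 : k * (k * k) = k⁻¹ := by
        rw [eq_inv_iff_mul_eq_one, show k * (k * k) * k = (k * k) * (k * k) by group, hkk, hKK]
      rw [hk4]
    calc q * (x * x') = q * (k⁻¹ * (x * x') * k) := by rw [hfix]
      _ = (q * (k⁻¹ * x * k)) * (k⁻¹ * x' * k) := by group
      _ = (k⁻¹ * x * k) * (q * (k⁻¹ * x' * k)) := by rw [c1]; group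
      _ = (k⁻¹ * (x * x') * k) * q := by rw [c2]; group
      _ = (x * x') * q := by rw [hfix]
  -- the main configuration
  obtain ⟨T, hT, hle⟩ := exists_syl (is2_zpowers (is2_of_invol hK.ord))
    (zpowers_le.mpr (mem_centralizer_comm.mpr hcomm.symm))
  have hzKT : zK ∈ T := hle (mem_zpowers zK)
  have hzJT : zJ ∈ T := hT.z_mem hJ.ord
  obtain ⟨x, hx, hxx⟩ := (hJ.qp hT).exists_four
  obtain ⟨hxT, hxJ⟩ := Subgroup.mem_inf.mp hx
  obtain ⟨hc, huT, hu, huJ, huK, hcjJ, hcom, hq⟩ := key T hT hzKT x hx hxx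
  set x' := zK * x * zK with hx'
  set u := x * x' with hudef
  obtain ⟨T', hT', hle'⟩ := exists_syl (C := centralizer ({zK} : Set G))
    (R := T ⊓ centralizer ({zK} : Set G)) (hT.pgrp.to_le inf_le_left) inf_le_right
  have hzJT' : zJ ∈ T' := hle' (Subgroup.mem_inf.mpr ⟨hzJT, mem_centralizer_comm.mpr hcomm⟩)
  have huT' : u ∈ T' := hle' (Subgroup.mem_inf.mpr ⟨huT, mem_centralizer_comm.mpr huK⟩)
  obtain ⟨k, hkP, hkk, hkn⟩ := (hK.qp hT').exists_normalized (T := T' ⊓ normalizer (K : Set G))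
    (hT'.pgrp.to_le inf_le_left) (inf_le_inf_normalizer T' K) (le_normalizer_inf T' K)
  obtain ⟨hkT', hkK⟩ := Subgroup.mem_inf.mp hkP
  have hzJN : zJ ∈ T' ⊓ normalizer (K : Set G) :=
    Subgroup.mem_inf.mpr ⟨hzJT', mem_normalizer_iff_map_conj_eq.mpr h⟩
  have hkinv : zJ * k * zJ = k⁻¹ := by
    rcases hkn zJ hzJN with e | e
    · rw [invol_inv hJ.ord] at e
      exact absurd ((invol_conj_eq_iff hJ.ord).mp e).symm (nofix k hkK hkk)
    · rwa [invol_inv hJ.ord] at e
  have hkzJ : k * zJ * k⁻¹ = zK * zJ := conj_of_inverted hJ.ord hkk hkinv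
  have huk : u * k = k * u := comm_of_commutator_core hT'.pgrp huT' hkT' (hcom k hkK)
  have hku : k * u * k⁻¹ = u := by rw [← huk, mul_inv_cancel_right]
  have hxu : x * u * x⁻¹ = u := by
    calc x * u * x⁻¹ = x * (x' * x) * x⁻¹ := by rw [hc]
      _ = u := by rw [hudef]; group
  have hkzK : k * zK * k⁻¹ = zK := by rw [hK.comm_z hkK, mul_inv_cancel_right]
  -- the third component
  set g := k * x with hg
  have hgu : g * u * g⁻¹ = u := by
    rw [hg, show k * x * u * (k * x)⁻¹ = k * (x * u * x⁻¹) * k⁻¹ by group, hxu, hku]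
  have hw : g * zK * g⁻¹ = u * zJ := by
    have h1 : x * zK * x⁻¹ = u * (zJ * zK) := by
      have hxi : x⁻¹ = x * zJ := inv_eq_mul_of_sq hJ.ord hxx
      calc x * zK * x⁻¹ = x * zK * (x * zJ) := by rw [hxi]
        _ = x * (zK * x * zK) * (zK⁻¹ * zJ) := by group
        _ = u * (zJ * zK) := by rw [hzKinv, ← hcomm]
    have h2 : k * (zJ * zK) * k⁻¹ = zJ := by
      rw [show k * (zJ * zK) * k⁻¹ = (k * zJ * k⁻¹) * (k * zK * k⁻¹) by group, hkzJ, hkzK, mul_assoc,
        hcomm, ← mul_assoc, hKK, one_mul]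
    rw [hg, show k * x * zK * (k * x)⁻¹ = k * (x * zK * x⁻¹) * k⁻¹ by group, h1,
      show k * (u * (zJ * zK)) * k⁻¹ = (k * u * k⁻¹) * (k * (zJ * zK) * k⁻¹) by group, hku, h2]
  obtain ⟨w, hwdef⟩ : ∃ w, w = u * zJ := ⟨_, rfl⟩
  rw [← hwdef] at hw
  have hK2 : UI (cj g K) w := hw ▸ hK.conj g
  have hw2 : orderOf w = 2 := hK2.ord
  have hwz : w * zJ = zJ * w := by
    rw [hwdef]
    calc u * zJ * zJ = zJ * u * zJ := by rw [huJ]
      _ = zJ * (u * zJ) := by group
  have hcent : ∀ k2 ∈ cj g K, ⁅zJ, k2⁆ ∈ core w := by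
    rintro k2 ⟨k0, hk0, rfl⟩
    have h1 := core_cj g (hcom k0 hk0)
    rw [hw, show g * ⁅u, k0⁆ * g⁻¹ = MulAut.conj g ⁅u, k0⁆ from rfl, map_commutatorElement] at h1
    rw [show MulAut.conj g u = u from hgu] at h1
    set k2 := (MulAut.conj g).toMonoidHom k0 with hk2
    change ⁅u, k2⁆ ∈ core w at h1
    have hzu : zJ = w * u := by
      rw [hwdef, mul_assoc, ← huJ, ← mul_assoc, invol_mul_self hu, one_mul]
    have hwk : w * k2 = k2 * w := (hK2.comm_z ⟨k0, hk0, rfl⟩).symm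
    have h2 : ⁅zJ, k2⁆ = w * ⁅u, k2⁆ * w⁻¹ := by
      rw [hzu]
      simp only [commutatorElement_def, mul_inv_rev]
      calc w * u * k2 * (u⁻¹ * w⁻¹) * k2⁻¹ = w * u * k2 * u⁻¹ * (w⁻¹ * k2⁻¹) := by group
        _ = w * u * k2 * u⁻¹ * (k2⁻¹ * w⁻¹) := by rw [← mul_inv_rev, ← mul_inv_rev, hwk]
        _ = w * (u * k2 * u⁻¹ * k2⁻¹) * w⁻¹ := by group
    rw [h2]
    exact core_conj (mem_centralizer_comm.mpr rfl) h1
  have hlay := (hK2.central_inLayer hJ.ord hwz.symm hcent).symm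
  have hwJ : cj w J = J := by rw [hwdef, cj_mul, cj_eq_of_mem hJ.mem, hcjJ]
  rcases hlay.mem_or_commutator hJ hw2 hwz hwJ (is2_of_invol hw2) with h1 | h1
  · have h3 := hJ.uniq w h1 hw2
    rw [hwdef, mul_eq_right] at h3
    rw [h3, orderOf_one] at hu
    omega
  · obtain ⟨q, hqP, -, hqx⟩ := (hJ.qp hT).exists_inverter hx hxx
    obtain ⟨hqT, hqJ⟩ := Subgroup.mem_inf.mp hqP
    apply hq q hqP hqx
    have h2 : w * q = q * w := comm_of_commutator_core hT.pgrp (hwdef ▸ mul_mem huT hzJT) hqT (h1 q hqJ)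
    apply mul_right_cancel (b := zJ)
    calc q * u * zJ = q * w := by rw [hwdef]; group
      _ = w * q := h2.symm
      _ = u * (zJ * q) := by rw [hwdef]; group
      _ = u * (q * zJ) := by rw [hJ.comm_z hqJ]
      _ = u * q * zJ := by group

end CfsgLib.UniqInvol
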